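import Cfsg.Agent.Fisch.F22.Tb
import Cfsg.Agent.Fisch.St.SubT
import Cfsg.Agent.Fisch.F22.Main
import Cfsg.Agent.Fisch.F22.Tu
import Cfsg.Agent.Fisch.Rc.Cov

set_option autoImplicit false
set_option maxRecDepth 1000000
set_option maxHeartbeats 0
set_option Elab.async false

namespace CF.Fisch.F22.LU

open CF.Comp CF.Fisch CF.Fisch.F22 Subgroup
open scoped Pointwise

noncomputable def HS : List (List Nat) := [[(nat_lit 1)],
  [],
  [(nat_lit 5)],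
  [(nat_lit 7)],
  [(nat_lit 9)],
  [(nat_lit 11)],
  [(nat_lit 13)],
  [(nat_lit 15)],
  [(nat_lit 17)],
  [(nat_lit 19)],
  [(nat_lit 21)],
  [(nat_lit 23)],
  [(nat_lit 25)],
  [(nat_lit 27)],
  [(nat_lit 29)],
  [(nat_lit 31)],
  [(nat_lit 33)],
  [(nat_lit 35)],
  [(nat_lit 37)],
  [(nat_lit 39)],
  [(nat_lit 41)],
  [(nat_lit 43)],
  [(nat_lit 45)],
  [(nat_lit 47)],
  [(nat_lit 49)],
  [(nat_lit 51)],
  [(nat_lit 53)],
  [(nat_lit 55)],
  [(nat_lit 57)],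
  [(nat_lit 59)]]
noncomputable def e1 : Sm := fun u w => eq0 (subst HS u) (subst HS w)
noncomputable def eB : Sm := fun u w => Bool.rec (e1 u (lapp [1] w)) true (e1 u w)
noncomputable def a_gs : List (List Nat) := [[(nat_lit 24), (nat_lit 50), (nat_lit 47), (nat_lit 37)],
  [(nat_lit 40), (nat_lit 44), (nat_lit 29), (nat_lit 28), (nat_lit 23)],
  [(nat_lit 46), (nat_lit 15), (nat_lit 9), (nat_lit 5)],
  [(nat_lit 59), (nat_lit 33), (nat_lit 32), (nat_lit 53), (nat_lit 27)],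
  [(nat_lit 28), (nat_lit 31), (nat_lit 55), (nat_lit 51), (nat_lit 45)],
  [(nat_lit 28), (nat_lit 21), (nat_lit 53), (nat_lit 22), (nat_lit 32)],
  [(nat_lit 33), (nat_lit 30)],
  [(nat_lit 30), (nat_lit 17), (nat_lit 5)],
  [(nat_lit 47), (nat_lit 47), (nat_lit 5), (nat_lit 47)],
  [(nat_lit 13), (nat_lit 9)],
  [(nat_lit 55), (nat_lit 51)],
  [(nat_lit 31), (nat_lit 21), (nat_lit 32), (nat_lit 53), (nat_lit 22)],
  [(nat_lit 24), (nat_lit 53), (nat_lit 17), (nat_lit 7)],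
  [(nat_lit 17), (nat_lit 59), (nat_lit 15), (nat_lit 17)],
  [(nat_lit 5)]]
noncomputable def a_pc : List PcS := [⟨(nat_lit 2), [(nat_lit 7), (nat_lit 11), (nat_lit 13), (nat_lit 17), (nat_lit 25)], []⟩,
  ⟨(nat_lit 2), [(nat_lit 17), (nat_lit 21), (nat_lit 23), (nat_lit 25)], [[(nat_lit 7), (nat_lit 13), (nat_lit 19), (nat_lit 21), (nat_lit 23)]]⟩,
  ⟨(nat_lit 2), [(nat_lit 13), (nat_lit 19), (nat_lit 23)], [[(nat_lit 3), (nat_lit 7), (nat_lit 9), (nat_lit 11), (nat_lit 19), (nat_lit 21)],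
  [(nat_lit 5), (nat_lit 9), (nat_lit 21), (nat_lit 23)]]⟩,
  ⟨(nat_lit 2), [(nat_lit 13), (nat_lit 15), (nat_lit 17), (nat_lit 19), (nat_lit 21)], [[(nat_lit 1), (nat_lit 3), (nat_lit 5), (nat_lit 9), (nat_lit 17), (nat_lit 21)],
  [(nat_lit 1), (nat_lit 5), (nat_lit 7), (nat_lit 9), (nat_lit 15), (nat_lit 19), (nat_lit 21)],
  [(nat_lit 17), (nat_lit 19)]]⟩,
  ⟨(nat_lit 2), [(nat_lit 9), (nat_lit 15), (nat_lit 19)], [[(nat_lit 7), (nat_lit 9), (nat_lit 15), (nat_lit 19)],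
  [(nat_lit 5), (nat_lit 7), (nat_lit 15), (nat_lit 17), (nat_lit 19)],
  [(nat_lit 9), (nat_lit 19)],
  [(nat_lit 11), (nat_lit 13), (nat_lit 17), (nat_lit 19)]]⟩,
  ⟨(nat_lit 2), [(nat_lit 13), (nat_lit 15)], [[(nat_lit 7), (nat_lit 9), (nat_lit 15), (nat_lit 17)],
  [(nat_lit 9), (nat_lit 13)],
  [(nat_lit 7), (nat_lit 9), (nat_lit 11)],
  [(nat_lit 9), (nat_lit 11), (nat_lit 13), (nat_lit 15)],
  [(nat_lit 9), (nat_lit 11), (nat_lit 15)]]⟩,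
  ⟨(nat_lit 2), [], [[(nat_lit 3), (nat_lit 9), (nat_lit 13), (nat_lit 15)],
  [(nat_lit 1), (nat_lit 3), (nat_lit 11), (nat_lit 15)],
  [(nat_lit 5), (nat_lit 7), (nat_lit 9), (nat_lit 11), (nat_lit 13)],
  [(nat_lit 5), (nat_lit 7), (nat_lit 9), (nat_lit 11), (nat_lit 13)],
  [(nat_lit 5), (nat_lit 13)],
  [(nat_lit 7), (nat_lit 9), (nat_lit 11), (nat_lit 15)]]⟩,
  ⟨(nat_lit 2), [], [[(nat_lit 3), (nat_lit 7), (nat_lit 11)],
  [(nat_lit 5)],
  [(nat_lit 3), (nat_lit 5), (nat_lit 7), (nat_lit 9), (nat_lit 11)],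
  [(nat_lit 5), (nat_lit 7), (nat_lit 9), (nat_lit 11)],
  [(nat_lit 11)],
  [(nat_lit 9), (nat_lit 11), (nat_lit 13)],
  []]⟩,
  ⟨(nat_lit 2), [], [[(nat_lit 1), (nat_lit 7), (nat_lit 11)],
  [(nat_lit 3)],
  [(nat_lit 1), (nat_lit 7), (nat_lit 11)],
  [(nat_lit 1), (nat_lit 3), (nat_lit 5), (nat_lit 11)],
  [(nat_lit 7), (nat_lit 11)],
  [(nat_lit 9)],
  [],
  []]⟩,
  ⟨(nat_lit 2), [], [[(nat_lit 5), (nat_lit 9)],
  [(nat_lit 5), (nat_lit 7), (nat_lit 9)],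
  [],
  [],
  [],
  [(nat_lit 9)],
  [],
  [],
  []]⟩,
  ⟨(nat_lit 2), [], [[(nat_lit 3)],
  [],
  [(nat_lit 3)],
  [(nat_lit 3), (nat_lit 5)],
  [],
  [],
  [],
  [],
  [],
  []]⟩,
  ⟨(nat_lit 2), [], [[(nat_lit 1), (nat_lit 3)],
  [(nat_lit 1), (nat_lit 5)],
  [(nat_lit 1), (nat_lit 5)],
  [(nat_lit 1), (nat_lit 3)],
  [(nat_lit 5)],
  [],
  [],
  [],
  [],
  [],
  []]⟩,
  ⟨(nat_lit 2), [], [[],
  [],
  [],
  [(nat_lit 3)],
  [],
  [],
  [],
  [],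
  [],
  [],
  [],
  []]⟩,
  ⟨(nat_lit 2), [], [[(nat_lit 1)],
  [],
  [(nat_lit 1)],
  [(nat_lit 1)],
  [],
  [],
  [],
  [],
  [],
  [],
  [],
  [],
  []]⟩,
  ⟨(nat_lit 2), [], [[],
  [],
  [],
  [],
  [],
  [],
  [],
  [],
  [],
  [],
  [],
  [],
  [],
  []]⟩]
noncomputable def a_hs : List (List Nat) := [[(nat_lit 1)],
  [(nat_lit 24), (nat_lit 50), (nat_lit 47), (nat_lit 37)],
  [(nat_lit 40), (nat_lit 44), (nat_lit 29), (nat_lit 28), (nat_lit 23)],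
  [(nat_lit 46), (nat_lit 15), (nat_lit 9), (nat_lit 5)],
  [(nat_lit 59), (nat_lit 33), (nat_lit 32), (nat_lit 53), (nat_lit 27)],
  [(nat_lit 28), (nat_lit 31), (nat_lit 55), (nat_lit 51), (nat_lit 45)]]
noncomputable def a_u_N_0 : Net := (Net.cons (nat_lit 2) (nat_lit 0x2223111111122222221111001001000000000000133333330000000000000000000000000000000000000000000) (Net.cons (nat_lit 4) (nat_lit 0x30c0c000c000c0008000808010100010001010808000000000c0003000300000000000000000000000000000000000000000000) (Net.cons (nat_lit 8) (nat_lit 0xc000c000c00080008001000760016001000f7000f00f00000003000000000000000000000000000000000000000000000) (Net.cons (nat_lit 16) (nat_lit 0x6700000c983000006700000e9870000001000000fc000000030000000000000000000000000000000000000000000000000) (Net.cons (nat_lit 32) (nat_lit 0x670e98700000000000000000000000000300800000000000000000000000000000000000000000000000000) (Net.cons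 (nat_lit 64) (nat_lit 0x670c9830000000000000000000000000000000000000000000000000000000000000000) (Net.cons (nat_lit 128) (nat_lit 0x1008000000000000000000) (Net.cons (nat_lit 256) (nat_lit 0x1008000000000000000000) (Net.cons (nat_lit 128) (nat_lit 0x670c9830000000000000000000000000000000000000000001008000000000000000000) (Net.cons (nat_lit 64) (nat_lit 0x670e9870670c9830000000000000000003000000000000000000000000000000000000000000000) (Net.cons (nat_lit 32) (nat_lit 0xcff3eff700000000e9870010000000000ff00830000000000000000000000000000000000000000000000000) (Net.cons (nat_lit 16) (nat_lit 0x367c0000f98f000016780000f98f000016780000ffcf0000f030000030000000000000000000000000000000000000000000) (Net.cons (nat_lit 8) (nat_lit 0xff000c000c000c002c000800100010001600f70010000f00f00003003300000000000000000000000000000000000000000000) (Net.cons (nat_lit 4) (nat_lit 0xc000c000c040e020808010106070607070e0e0e07000003000f0c0f0c000000000000000000000000000000000000000000)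 (Net.cons (nat_lit 2) (nat_lit 0x333333000000000000000111122222221111001001113220000333233333330000000000000000000000000000000000000000000) (Net.cons (nat_lit 1) (nat_lit 0x5555555400000000000000000001555550000000540000001500000000000000000000000000000000000000000) Net.nil))))))))))))))))
noncomputable def a_u_N_1 : Net := (Net.cons (nat_lit 1) (nat_lit 0x104414545010400140100105011554450050551400140110101450451144010005110100400441151514011411450555014551440) (Net.cons (nat_lit 2) (nat_lit 0x212300312030123021323233320221022132220022210100202320311323220013322030022101021223202001200230221030020) (Net.cons (nat_lit 4) (nat_lit 0x902010c0a04000f010300010a0200000c040b0803090d050d09010e02090e040a070b0e040f060902030a040100030f060a00) (Net.cons (nat_lit 8) (nat_lit 0xb900e300b300e00088000900400039006f008200210000000c005c004b004a002a00d1007300b9002b000800f0009400e00000) (Net.cons (nat_lit 16)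 (nat_lit 0x6c9a0000a00d0000e39f00003f290000440600008f330000d5650000408400004e520000d63200003d440000481e00000000) (Net.cons (nat_lit 32) (nat_lit 0x400000000686fee9c000000006eab1e2d00000000576834a000000000f011a2d2000000002c145186000000000040c900) (Net.cons (nat_lit 64) (nat_lit 0xff1f87c14788ea0000000000000000000010001ffe2b77800000000000000000000000048044909) (Net.cons (nat_lit 128) (nat_lit 0x12800013000000000000000000000000000000000ff9af2fc1014ea91006f090000000000) (Net.cons (nat_lit 256) (nat_lit 0x1f9b30578ff9af2fc1014ea91006f090000000000) (Net.cons (nat_lit 128) (nat_lit 0xe86fffec700000000000000000000000000000000ff9bf2fc5f54fb99b07fa9e200044801) (Net.cons (nat_lit 64) (nat_lit 0xdd81249f1b22b71200000000000000000b655d09dff395ea00000000000000006398969616672009) (Net.cons (nat_lit 32) (nat_lit 0x10000000090ec93ab00000000d4f855ec000000004f9ac05600000000b091a2f30000000009e9039900000000fb473159)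 (Net.cons (nat_lit 16) (nat_lit 0x70cf00008a180000f182000092150000ccb300009c9600003a3a000060de00007a2c00005f660000390800009ce1000028d4) (Net.cons (nat_lit 8) (nat_lit 0x3200d5006e001c004200ed009c009c00c4008c0044000e009b00ab0076004800f800470063009d00d3001800570081006600cb) (Net.cons (nat_lit 4) (nat_lit 0x90507050b0f0f0e0e0707070c0e04060b06000b06050f020903090a09060b0e06000f070c01000d0d0d0a050a020606090c0007) (Net.cons (nat_lit 2) (nat_lit 0x131203332321021120030113010102113022110310222321033202011110332301233303230130212110100112033210131121322) (Net.cons (nat_lit 1) (nat_lit 0x150544104500545404545114114440055115550151554545500451411514400104451504015400501010505051440505410454045) Net.nil)))))))))))))))))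
noncomputable def a_u_N_2 : Net := (Net.cons (nat_lit 1) (nat_lit 0x154015414500450451441405010540054004111151510105050014104141410040100444145144450445414455554141044141040) (Net.cons (nat_lit 2) (nat_lit 0x211333010211103202033300333310220132311303132010221001033200211011120203303122032213131322222222002213310) (Net.cons (nat_lit 4) (nat_lit 0x803040e03050c0e030e090a050302010e0507040505060e09000101020201090f070a0c0a0c010a0309080800090e0c060d0900) (Net.cons (nat_lit 8) (nat_lit 0x6b004700e3000e00c2001a003c000900ec00c300830094008500840000008c00d50082001100d7000800a50006002400810000) (Net.cons (nat_lit 16) (nat_lit 0x221500000ac60000fcd90000fda500002601000005080000101e0000840100008ba000002107000091840000050300000000) (Net.cons (nat_lit 32) (nat_lit 0x6d4d21240000000051f9aab100000000b09bc15000000000ac24144f0000000013880ccb0000000000080000) (Net.cons (nat_lit 64) (nat_lit 0x7480100e5a38416800000000000000002c2400437e6fbefe00000000000000000000000840808002)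 (Net.cons (nat_lit 128) (nat_lit 0xa40a0cc000000000000000000000000000000004181733ca08000003424004000000000) (Net.cons (nat_lit 256) (nat_lit 0x36e6fbefe4181733ca08000003424004000000000) (Net.cons (nat_lit 128) (nat_lit 0xed1b84fa1000000000000000000000000000000006da5737df68988823424144c80800100) (Net.cons (nat_lit 64) (nat_lit 0x1be8aeee8d0fbbbc00000000000000003c3e80437e6fbaff00000000000000003a449d8465286341) (Net.cons (nat_lit 32) (nat_lit 0x400000000c877956900000000cbe46de300000000159be126000000002c24145d000000004605cb3b0000000025a4b797) (Net.cons (nat_lit 16) (nat_lit 0xecff00007f62000056bb0000c78f0000aeee00007cae00001a3a00008c6500000ea70000543c0000741100009af900002ef6) (Net.cons (nat_lit 8) (nat_lit 0x1300cb0005005200e400730080000e00dd00e1002300a4008a00e60092008d00ef000b000c009800c4000c003400eb00490047) (Net.cons (nat_lit 4) (nat_lit 0x5030a0607080d000e000d0e0f0f0a03030c0b07070c07040d05040b070a0f090c0d0508070b0402030d0e090a06000509020800)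 (Net.cons (nat_lit 2) (nat_lit 0x12032021100211333101030320231331012323031131201210030112230310331303200301121110333312013332322331220) (Net.cons (nat_lit 1) (nat_lit 0x550555050504054100454555155415455501105154501450550111401541510554554015001540015450001014044451000414550) Net.nil)))))))))))))))))
noncomputable def a_u_N_3 : Net := (Net.cons (nat_lit 1) (nat_lit 0x101514450140504515051454400454000440401014010044014014010011411055111400154510415054504004055550414001100) (Net.cons (nat_lit 2) (nat_lit 0x113201033313302310333330101000333222131003000012301322323201031020002030332030313002121202113302301122010) (Net.cons (nat_lit 4) (nat_lit 0x90e040706040c0f05010e0802000b03070307010f0000070a03070101010406040807010e020d08050807000b0f0c060e000400) (Net.cons (nat_lit 8) (nat_lit 0x3c000c00ce00bf0025006f007f0028009200b300a0003200aa00ef00a90041001400c300a0004100a2005e00ab000600080000) (Net.cons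 (nat_lit 16) (nat_lit 0x73a2000015af0000b33300001f7a00006b000000b2c00000942000000021000040d100008842000039210000048400000000) (Net.cons (nat_lit 32) (nat_lit 0x700000000390ca093000000007803f5b00000000064aadbc300000000b2f2a84000000000f485888a0000000002011020) (Net.cons (nat_lit 64) (nat_lit 0xdef52473d2f29840000000000000000020b2a04fec7e578700000000000000000000000001011002) (Net.cons (nat_lit 128) (nat_lit 0x46408128000000000000000000000000000000000d3494427a35308680dbeb0d000000000) (Net.cons (nat_lit 256) (nat_lit 0xc6e1a3787d3494427a35308680dbeb0d000000000) (Net.cons (nat_lit 128) (nat_lit 0xb9be5ed7f00000000000000000000000000000000f3fbe46fa37758ee9ffeb9d001010028) (Net.cons (nat_lit 64) (nat_lit 0x30126306f453078b00000000000000006db7a479de3eff870000000000000000da38fbd82cce00a9) (Net.cons (nat_lit 32) (nat_lit 0xf000000000712d307000000009e4fd8e7000000006342b6a100000000b2f2e940000000007596bd3800000000b6c911ae)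 (Net.cons (nat_lit 16) (nat_lit 0xe05800007c700000dc4c0000e9ea0000a947000095f40000b18e00001a6500001ed9000073ac0000234a0000906b000061b7) (Net.cons (nat_lit 8) (nat_lit 0x1f005200c4009600e400ee002e00d900aa004f00b100b4005f009d00d000c700cb00e700970078009700ef0005006a00df00ef) (Net.cons (nat_lit 4) (nat_lit 0xa0e070a000406090c0f0f020a06080503000a040f0f0b010a030009070b050601070d0e0f000d0b0c090401080e0f0c09010f08) (Net.cons (nat_lit 2) (nat_lit 0x20321000100112321222220332120210230021030331233130333221013311233230022201030213023130102122320232330231) (Net.cons (nat_lit 1) (nat_lit 0x541440140041541101100500440440505405110405454551154440410410144151411101441050154155515504401510404500514) Net.nil)))))))))))))))))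
noncomputable def a_u_N_4 : Net := (Net.cons (nat_lit 1) (nat_lit 0x400015404010455455451510101104505104111155511101404015101011011114411100015100151510540401010415114140) (Net.cons (nat_lit 2) (nat_lit 0x131310022310300032332030233202302103030110113322020132023122311030201113312100011030133323111331012120310) (Net.cons (nat_lit 4) (nat_lit 0xa060f040b0809030e0c02070b050f010400010400030f0e0b05020a000d050404010308050d0c00010e00010d09060c0408) (Net.cons (nat_lit 8) (nat_lit 0x8800e400400046003800e60096001e003a00a000c7008000cd008800b6009600b600cc00cb003700d8003400e300a500820002) (Net.cons (nat_lit 16) (nat_lit 0x4621000024d700007d5b00002b66000093ee00004e8b00002e34000010480000a9b6000010a2000031440000454200000000) (Net.cons (nat_lit 32) (nat_lit 0x800000000120c205000000000c47f596b000000008452048600000000d5584c570000000031103250000000008d084050) (Net.cons (nat_lit 64) (nat_lit 0xa31512de38a7275f000000000000000014188849a190594400000000000000000000000500000000)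 (Net.cons (nat_lit 128) (nat_lit 0x140800002000000000000000000000000000000008920033e9d52eefc2abf31c000000000) (Net.cons (nat_lit 256) (nat_lit 0x1448000128920033e9d52eefc2abf31c000000000) (Net.cons (nat_lit 128) (nat_lit 0xeffff7fff000000000000000000000000000000009d388b7fbdd2fffcebbf73d618478028) (Net.cons (nat_lit 64) (nat_lit 0xab011536bd7e7fbd00000000000000001cbda969a1885d050000000000000000b71d4cfb78c26b06) (Net.cons (nat_lit 32) (nat_lit 0x300000000eae7390f00000000ef59525000000000d5020ba000000000c518ce57000000004432edf600000000bdf3bbca) (Net.cons (nat_lit 16) (nat_lit 0x93b60000c7d600006ab3000035c900003cc5000001f300002806000018ff00007f96000028dc0000e4fd0000a2a1000082ae) (Net.cons (nat_lit 8) (nat_lit 0xd70032008b003b009a009f00e9009500530020009d00b600c5006000cd00b2009a0009003600e200d0004800b700c300b6000f) (Net.cons (nat_lit 4) (nat_lit 0x8060104050c000d060b0d0f070109040b0304030609090a0c0e0f010d07010d080103080307070e03040c040506030209090403)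 (Net.cons (nat_lit 2) (nat_lit 0x333333130012130230233132311201223112203320310031013212211010121120230123301233103130123030100112320123023) (Net.cons (nat_lit 1) (nat_lit 0x405140405040401411041140144545144014415050554401015110554515144004510151145010505554015041150541051010151) Net.nil)))))))))))))))))
noncomputable def a_u_N_5 : Net := (Net.cons (nat_lit 1) (nat_lit 0x551145114400155005541100440554405014000110000050410501014050510010501011450101054400440555114045445445514) (Net.cons (nat_lit 2) (nat_lit 0x311113333001123002100032202311313130210222000201003301103311110030030001221120131113102130203303001122200) (Net.cons (nat_lit 4) (nat_lit 0xd050b02060d0d0207060406020105070404040301090c000201040a0e0409020f0e07040801020d00000100010604030f010802) (Net.cons (nat_lit 8) (nat_lit 0x7100a00063003900af00c600f8009700540092009000280099000b004a00250007000e004100ff00f4004200b200f9005d0000) (Net.cons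 (nat_lit 16) (nat_lit 0x849d0000da700000c854000068880000f6ce00005ac900001042000020080000019d000009920000d01a00006c2800000000) (Net.cons (nat_lit 32) (nat_lit 0xe0000000014430866000000000f2a003300000000ca4f103800000000240471890000000009150c020000000000000000) (Net.cons (nat_lit 64) (nat_lit 0x4301fc8c849658400000000000000000240c748befcd9b3600000000000000000000000080000202) (Net.cons (nat_lit 128) (nat_lit 0xa84c090200000000000000000000000000000000043b18b44003240412448748000000000) (Net.cons (nat_lit 256) (nat_lit 0xbefcd9a3e43b18b44003240412448748000000000) (Net.cons (nat_lit 128) (nat_lit 0x90854aa5e0000000000000000000000000000000067bdffcde073c3532448748000300400) (Net.cons (nat_lit 64) (nat_lit 0x340d4211437151730000000000000000344e749befcd9bbe0000000000000000e0198bb5494eb3a1) (Net.cons (nat_lit 32) (nat_lit 0xe00000000c804163200000000062ef592000000007e0f2a7600000000240c7089000000006819d50a000000000c2b22c2)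 (Net.cons (nat_lit 16) (nat_lit 0x639d0000bb660000389800001cff000075fc0000c55c0000364b0000206b0000c5fa0000c08d000090870000723700006468) (Net.cons (nat_lit 8) (nat_lit 0xc0061002000ad005d00b70074004800f8002200f6002900ac004500ce00f7006e0088002800d000f4004700a4008400200078) (Net.cons (nat_lit 4) (nat_lit 0xf0f0704030509060601020c01020b0d0e0a0e06010e0103080a0f0902070502010002050f0502010409030d0b0a0802090e0e0b) (Net.cons (nat_lit 2) (nat_lit 0x322222031032322102202233131021302021221303030330330012221222221310210323232320313010100232303300022020012) (Net.cons (nat_lit 1) (nat_lit 0x455144115005104014454001505114151500150441045511411401154105045140110144051004555001451145000141050550445) Net.nil)))))))))))))))))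
noncomputable def a_u_N : List Net := [a_u_N_0, a_u_N_1, a_u_N_2, a_u_N_3, a_u_N_4, a_u_N_5]
noncomputable def a_u_pt : BT Nat := (BT.leaf (nat_lit 0xdb6db0dabda2d9dd99d98d97d92d87d86d85d83d75d73d70d6fd6ed69d5ed5dd5cd5ad4cd4ad42d40d3ad35d31d2cd2ad27d26d1dd1ad19d16d12d09cfdcf4cf2cecce7ce3cdecdccd9cd8ccfcccccbcc8cc4cbbcafca9c94c92c90c8dc8bc84c82c80c7fc76c68c59c4bc48c38c23c21c1fc1cc1ac13c11c0fc0ec05bf7be8bdabd7bc3ba0b9eb9bb98b96b8fb8bb86b73b69b34b31b25b0cae9ae7ae4ae1adfad8ad4acfabcab2a7da7aa6ea29a26a23a20a13a10a0ba0a9fb9ee9ea9e59a69a295995695395094394093b93a92b91e91a9158d68d28a98a888388086d86c86b85f85184d81c80a7ea7e97c47c17ae7ad7ac7a079278e75d74b72d7017006ff6f86f76ed6ce6be6b26b169966d66c66b66466365963a62a61e61d5e35e25e15e05dc5db5bd5a656f56e56d56c5685675495325015004fe4fd4e84d64a74a64a44a348e47c45044f44e4084074063ca3c93bf3b939839738d38736c36636236034634033c33a33032d32c32431831531430c3042ff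2f22ed2e32d92b92b82b72b62b22a92a829a29929529028f27427326325725625524a24924124022d2272232222212202172052042031f31ed1ea1e91db1da1d91d61d41d31d21bc1bb1ba1b91a71a31a11a019f19e19819719519419319119018f18e17115d15c15b15a15915715615515415315215114e13b12e12c12b11f11e10f10e10d10c10b10a1091081071061051031020f30ec0eb0db0da0d90d80d70d60ce0c50c30c20c10c00bf0be0a90a70a009809709609509409309209108c08608508408308208108007d07006f06e06d06c06b06505f05e05d05c05b05405305204f04504404304203e03d03903803703203002f02802702601f01b01601300e))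
noncomputable def a_u_pi : Nat → Nat := BT.record a_u_pt (nat_lit 10) (nat_lit 1023) (nat_lit 12) (nat_lit 4095)
noncomputable def a_u_t0 : BT Nat := (BT.leaf (nat_lit 0xd1e8b43a0cfe7b3b9ccde6b3398cbe5b2b94c9e4b2390c7e3b1b8cc5e2b1388c3e1b0b84c1e0b0380bfdfafb7cbddeaf378bbddaeb74b9dcae370b7dbadb6cb5daad368b3d9acb64b1d8ac360afd7abb5cadd6ab358abd5aab54a9d4aa350a7d3a9b4ca5d2a9348a3d1a8b44a1d0a83409fcfa7b3c9dcea73389bcda6b3499cca633097cba5b2c95caa532893c9a4b2491c8a43208fc7a3b1c8dc6a33188bc5a2b1489c4a231087c3a1b0c85c2a130883c1a0b0481c0a03007fbf9fafc7dbe9f2f87bbd9eaf479bc9e2f077bb9daec75ba9d2e873b99cae471b89c2e06fb79badc6db69b2d86bb59aad469b49a2d067b399acc65b2992c863b198ac461b0982c05faf97abc5dae972b85bad96ab459ac962b057ab95aac55aa952a853a994aa451a8942a04fa793a9c4da6932984ba592a9449a49229047a391a8c45a29128843a190a8441a0902803f9f8fa7c3d9e8f2783b9d8ea74399c8e270379b8da6c359a8d26833998ca6431988c2602f978ba5c2d968b2582b958aa5429948a250279389a4c259289248239188a442190882401f8f87a3c1d8e872381b8d86a34198c86230178b85a2c158a85228138984a241188842200f8783a1c0d86832180b8582a14098482210078381a0c058281208038180a04018080200))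
noncomputable def a_u_t1 : BT Nat := (BT.leaf (nat_lit 0xd0e8347a2cae532792c8e431f8ec6e333f9ecee73379acce632f96bddeaf378bbddaeb74b9dcae370b7dbadb6cc5e2b1388c3e1b0b84c1e0b0380bfdfafb7cae56eb559ac55ead55aa54ea551a853e9d6bb55a6d167b3596c963b1586c15faf5767f3e9ecf2773a9cce26f369acd26732a6d32974aa4d228f46a2d128742a0d02472290c823f1e8ec72371a8cc622f1698cc25f2e96cb2572a94ca24f2692c92130883c1a0b0481c0a03007fbfa2b1489c4a231087c3a1b0c85c29e4f1783bddced763add4e9743f5f8fb7d3e5f0f77b3d5e8f36fb79badc6db69b2d873b99cae471b89c2e068b419ece66b31aed66ab51a6d26431d8ccb6532582c05faf98ac461b0972b85bad97abc5dae962b057ab96ab459ac956aa56ab150a95329d48a551a8942a04fa793a9c4da6932984ba592a9449a49229047a391a8c45a29128843a190a8441a0902803f9f8fa7c3d9e8f2783b9d8ea74399c8e270379b8da6c359a8d26833998ca6431988c2602f978ba5c2d968b2582b958aa5429948a250279389a4c259289248239188a442190882401f8f87a3c1d8e872381b8d86a34198c86230178b85a2c158a85228138984a241188842200f8783a1c0d86832180b8582a14098482210078381a0c058281208038180a04018080200))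
noncomputable def a_u_t2 : BT Nat := (BT.leaf (nat_lit 0xd0e8347a2cae532792c8e431f8ec6e333f9ecee73379acce632f96bddeaf378bbddaeb74b9dcae370b7dbadb6cc5e2b1388c3e1b0b84c1e0b0380bfdfafb7cae56eb559ac55ead55aa54ea551a853e9d6bb55a6d167b3596c963b1586c15faf5767f3e9ecf2773a9cce26f369acd26732a6d32974aa4d228f46a2d128742a0d02472290c823f1e8ec72371a8cc622f1698cc25f2e96cb2572a94ca24f2692c92130883c1a0b0481c0a03007fbfa2b1489c4a231087c3a1b0c85c29e4f1783bddced763add4e9743f5f8fb7d3e5f0f77b3d5e8f36fb79badc6db69b2d873b99cae471b89c2e068b419ece66b31aed66ab51a6d26431d8ccb6532582c05faf98ac461b0972b85bad97abc5dae962b057ab96ab459ac956aa56ab150a95329d48a551a8942a04fa793a9c4da6932984ba592a9449a49229047a391a8c45a29128843a190a8441a0902803f9f8fa7c3d9e8f2783b9d8ea74399c8e270379b8da6c359a8d26833998ca6431988c2602f978ba5c2d968b2582b958aa5429948a250279389a4c259289248239188a442190882401f8f87a3c1d8e872381b8d86a34198c86230178b85a2c158a85228138984a241188842200f8783a1c0d86832180b8582a14098482210078381a0c058281208038180a04018080200))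
noncomputable def a_u_t3 : BT Nat := (BT.leaf (nat_lit 0xafcc6a123775f626d58fd1e355c91439f36d83b3e5b39945ae61026eb2eed697fb72e56e7f4dac2fcb9b8e397772b230d5a85b93057e85512a4f1c1b6e558770d31db5bc6547211699389c0d795e2346d99f3e2d596b066a49406d361a31dbc686e0fbd04968ad688b4a78fa61de73d64c03c345179bb420acca53bd7f89ca556537a66a9b3eb79a57aeb9c5f32675628de29a6a7caaee854fc2e4984c6a454d48abc5af2b36fb63d98aaf73b994aadbdae2d17fbe3ad82b36fb7950e8ab52f2f415555e9b58c22a5e7659ee3666acb34fecf74c0e3b1f5d754860903b8e63334e7acbe210f7a4e326b0b1cedd346cead2a949cdad6879158cd64eb69742632ba904555cc45cc0164c05ec32251e63bb20d2c653de30ce93352030d84451e4fd48a19024116a8d2e6d2388c064d3b8b8e636429e10651510c4e81c0509c683015958589d4f04530953d880446330990269b42155264e26228b832358bcc044210e91a4844a68324a330ecca821ca40121e1f9a4f41437a48d05040161401f108dc543e2d13c7075479b880670d918a87f2d81cae0f0b9e4240006a30865f50874e47e1e9c492763e974a60e2905808453121c78882f1c12c944e27c48023e041168e351b06a052c868961800894660b148304c084c8182a28))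
noncomputable def a_u_t4 : BT Nat := (BT.leaf (nat_lit 0xaecf69d4b96d059f2865d59bade7cd623f336ac69916572b99dd6789c8a695eb65e636f3b7dd5cf3f825d33d0383cc2854fbe62652e8bfe15bf4d88613290fc7567110574bade14069c930357d1ca9c998b45e222f47b3ee64cd8b5c6cda18e371eb6a7d4dd9917cd342937264c75f1547556ddf456949720d69de098d2b76d8f458d6d30f22b0afdb6638f62aae9555d065dc4bfcdad2a17d91e6582ad9e5917ca6cead68ed96c65950b6bbdcd84a7c9ac672e17063152bac3e0d4980a65132b5a57439b6d778a96e13e9b67ed2b28138da2fc85c2af776bf58ad7617fbfb1786b754eb952b052338aa90d1aa33ac92b25f38c52be4d7a59c621abca1c6602b89ac9d6f128f30177069631194ce802e58ed4862f610ec8a3dde4fd904ba13154f23c66510d20d081b3c19806814e875001c3a959465e23850d2360a9c8ce20112892677489814253200c056173f96474924b8b0908d4a8c45c1e2b91938123784cb4552218cc27a3e08cf66d1a07c54711f92c1e521ea18ec411489d2054251d13073069905a684d908486c1a9ad40452d9305e21311a8be49272502289049c11c88372593e85439340e004501414194d1f49e7e28170648c21838ca0c1d89802583c8e504161e0a06e060422cba041f00820254c8601638))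
noncomputable def a_u_t5 : BT Nat := (BT.leaf (nat_lit 0x6c5b9c17e8bb866ecd99545a0ed7160a4ad9a2b4e81606b3e1b57292349fefea44b59515a9dc1b96a8e66a511d8b332170a9d47d8f09b1601c95b95642352bb1e3226d4934b97b0fc3d4a77a2913959154cb41d9d18902e60777b0d2741306eb2e1af762412e76b9639b23007e3e59f9380bb18110c1d723cdecdc31e2ee6ae7625696fd36db36b7db1e97687613179583569cf3fbed12ff7c74e1a0574bde7ecee3a8531d521a3452cd47bc5e6b0dbafcf9eb2f9c422af39c4625aefd743ae678198bc2530577b45e4f37b506e3237dc6e22fa9e5929d9893e67439ea5556bb8e8ce3f4794a1e36854bc564a6b979a4f6f59caf595694fab2c163685e2ed6b595c2df0ac261a9eeabe5fa9992c1542958cc554a9166ab57ab558aa572c96cba43a00b08e171dd227625805326d441b8666a4d0493a1b4495c127922a3c5a97519d0887e3e9ace20e3c211064132035183e4f1a46e38459289e47119f0f41f2d250165f50a047a950027c90860a87864552d950760f1a1882e82289a080653324048500d0e4fe29319b058044d94d2c421f92498072e85854600501842a03d9650a22271591473101c8101423008b83c2f0c11a2b139bd26181790d441c128e8a492028a0ea0c3386530104e0446a61268d82631018983a70))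
noncomputable def a_u_t6 : BT Nat := (BT.leaf (nat_lit 0x6cd81c3518b38264cc9bdf9c4e46856e48d8a034a8b6e6d371ad6a92b4dfcffb1c697b269de59f1728ee823f1c8bb36150baa4a17318a4e31db8295e8a5b2aa460260c48ac3594e6b5dcea79083b2dbb3ab8489810980b1dbd5cc1d8b3513643965d126a37ea5878643f271e6bb55dd91904199ce7b0dde0103cecb1a2cf7ce6def508259b0d47b65bdeb7d71d9f2b8b7657e2157bb4e6f97f755b5b758cfdef090eb4cc5d33cb249e9b36bcde2e902ad48de94aaac667f44c4e21f94375ba2858ea63be0b29783c66af679cd3313e7d44636fb90d1abd718a65f3da197ce29f818463729a37ee3e6768c9629e599a0d67397aa76156b5dbaac5614b5daf1693d5bae2cac361292acbf5f29582c956a998ac655a9d54a9562a15eb35d2d964ae43864ce34311dd220b21a4d320d44104c86a0e8513a4e452804279398b51e9751980627e3e950cca224a11066e199b5187f4f2702286160a902000f259304641250ec520793ca07b2395810383408c76252d9ac64a1470b8b85a21054a64c388bc0e3d4d9c87c613809d16850d100f8511f9e0ca242c85894743a81812574a97408220da7d1245100e490120f8082e4d378c06a2b3617802184812c1c1c2a8e8be2802a48140c2c200f410348dd1a291e0d82644018993463))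
noncomputable def a_u_t7 : BT Nat := (BT.leaf (nat_lit 0x8140e1d0f97bc6773cb1c427523b150642fca4d2aa904a44c6a733a3555a2e37d3cdfcf87db9e735d9b4d1e93e9c591aedb77ba214ed7837e8f4ea2509d34c82b79d70b95b91c17acde5e534f755fb1911733d9ff1d6e3631591c6c6ebcf5b765a396f6ce4b278fcc62e616c5e582e128955fdc39ccee671d7b915f17151c046b02d6cfad68aa4ba59ae6da5bad996cfb8b432ab19ba970957c1b8976ba6435560af9929b0f72b55e15cc9bada168b3a029eef82ade2164c6c2d655589a95724b5862e1afb50ad2b2f361b5c5ecec1bb5b6bf69c868a2d3fd1c4ecb3dcd682494dd0c1ead4bcf4b59abe6ebe7291f69b09caee6930e24cc5fc1a58ab622e63cad602f551438cc61533593c9a5d098440641158a4358ef2653f59cd480431d8f74211c8c4a24a44ee6047988062f41930e230162193a7a4d938e422008c4be3a0e248ea97519b49a29308d826401d95056564f1a10a8a2e09c3c801e908721b4c0809676361f0f64f3f8642e1208944662e1fa34788e50a8890214a9a4bc413203502070a07c00933c0a9349c449b8a0242d9ccde5911a1c682d3a1f4ce822ea586e79048f870554a15c3a1a2d0091666329a9208c0794ce0881a8a08a063181414523f11086265027cb01002054d62519058300b4c830100e))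
noncomputable def a_u_t8 : BT Nat := (BT.leaf (nat_lit 0x71b99b6de97b5e773cb1b7e7547b153a42d1a4d2aa8e7a44e6a75da3555f90288bd9ff1d8dc1263339f579eb369c591e30e82bae172b94c424741a653dd54477c3dd10a76ca9c37acde5de14274d4700fa81bcdfcf88e3671591c6bee68f4b05c1b96c6c64b278fb8e2e5b6f5e5bb2d07725f1c19ccee67037b8fdfd717ec644f1d45cfad5acc5b3cfec3405bad9f2ddcc4df2ab168306b14da94c976ba7739560af71326b99ad06855ca6b45d568b36d31ad790d168d64a7ace155594c1e1da5845256aa17dc32b33d73bbb32e8a5b4d7edb76c156d9b66c446a7b65b95a9a757bc4a29756bccc22ca867b2f1322922a5aac892aae191756c01eec365339d8bf63b517d438cc61853593c9a5d098440641158a43580f2623f572bd8344a3d2c41958ae0f071dd224447914066b420c8a62b242193c214d960b420129d0861c1d248eaa34b8d09a703184c6c6632a4060474e9a10a371f2352a1d1e909046704888a4761a890464f0ba68fe9c4494466731f89c780d151e0587a0f050bc4132239029634a813e55512843212089b8a07c2d8b8de593da20da2d189f836392e81d14944c17070933c919001a3904010401da30a86a251c45287360a0c40530818144b3e980be0c0f8009c02020545e01260602c0b4c8991649))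
noncomputable def a_u_t9 : BT Nat := (BT.leaf (nat_lit 0xabe1ecd77a25d29d23a0dce9f14a14826d84aecc66783af422692e9f4e69b58bcdeb3b6abc571fb0993c9b3f35a651e7f67c4e2b275bc45ade5158cc632b43d1d872591c860b1f7fbf633290dc5ac15da1a9673379ab9666df6ecb67a037b5a2cb40b3cbdb2c1705be6172aa7a2d56cc4d12bf1b7ca8e01778e5eab1d2b15d30178bec0c295b166fb79aebf7538251305c30ae2fe55c91cee668b0dead88d489fef354c95c7118dc75b2d39d58a16e85445db70594cadc2cda454dd72a813f1a10366486ab4aa33da390e78b5a1ed297d927938783bdb5107235277637dbe9c5046e33a93547c32a8aa783cb5dac79ba9a271f9929591405232d9ec9834b1aac6894798b69bb5a1835ac35669756a86167b65afdd5d96d7bdf6010c6eb95dcf9442401c47049e52807408e4b69f438442410359bc5678370b852913d1ec3c0602974b23a0e0642a580da11068a34820045418178823b068f8c02705828c6452a9dcf84f0b8c49676368d4684c388a0085a4c9707080162805ea222100d0850d0751e5f3300542570f920d83229a6c5a74019c90c7529059345011a5cc4614910cca2649a387846061251a64381a894370a275169e2b2709c183f945047d339f8842451a592a22128a8e68c1993400214484c6c3d1f8801e98))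
noncomputable def a_u_t10 : BT Nat := (BT.leaf (nat_lit 0xb5cfeb94dbed4b0b5aacd62ad46a5d4edb61bada6d167b2ce27b62afddaef73d12dd6594c859a5f3ab258d553ca861b0f83d02ed5d9ecd55e4348aad51594ab961178babc68560ea7042ad54957e3f2782ba2e16d88d1ad1ead87f56e76b3cce77137b5abd1b2ffbd3cdab9fb665f36c8bce2d62e970c2f14e867e56f98dc8b2f252475e31a4c2813f20725bfdfa251ece459ed96662fa1cf187c5edf6e834b2e19866afe20e476bc2c0a884cbb018e69b0e08dc7c3eea2a98ac8302fa6fb7948d755bca33438a5c5dee773295a2ad7ec9e6b088ec714ce388b76032695ca94edb82b961b1894bb982e2863b236f962b6a00f76335988c9683017b408d4897332944c26f319ccce8b23a3d06854fa653a695e9f5765b368fd1227076a33994c70995092564c080441e210e4b6001b048229d178cd18a2268b8520c109f00ea34b8f4a07e3e86536580d85830694522d3c90351907840068f8be274923cc64549898f6510b92c6228368d46871261d90c5a4c9710a802407cd678218ec3438340741460328945446500b0d85319054ea52019c8082d3a211345912014c46105910cc772aa388257488391a5e380c01e141b840100223a249c833f93d041c338e90223032552c9400a84e62b379b93e7a4e2210e5d1f9e49409))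
noncomputable def a_u_t11 : BT Nat := (BT.leaf (nat_lit 0x82caa231ccac6f1f92c6c7726f3c8b633f29cce732f2bceba336e0bdde9e0ef6dd129cdf6bbb5d6e17542a8ee9c5e29f6fa71cdabae768be1ecd97abfa72f4813727d338239abd46a4d21f8ff98cf6d10e7253283106f53e713b9d3c61723a5d661f86a14bec762a8592495a8455b0b2581dda6921aa54ebf558b5a62965bac5edacba5481f2b9c156f12cf79461b4d6beb22792e772f6e56abcb55fb2671342133572b02f184abe1e02c7bf5462b436eb131174b35de1acab75823373cf686619a67662d96fb8c9f0794d1c8b20d4c75f2ff81b3cfe35a2b5b331980ac53651a0ae34b2d70a934e271ea2d02c2cd83cb26f3296c197d1f8930987005229d7f0c52a99d8b75c2d1eebb5e2c15cba562c564b6552d582b362abd8cc954aa15aab48a2cae4a2aa0d084c02161326b3b97cc07e4f82d2e7a0518c8a873c198e28c35054349e4e971021b2d1e528523a150fa08518a05a23361fc226d371bc522e04a20ca38400dc283c06a351c1e03904ba392d85cb21915094002144890a25027a6866123e07c900e00a844e954b108bc8a1fa087a64348807c68200c0e67026a70f6134c0d4ea491b1186876310188e4b188e9201c07910ce220ea149c10390090c3b158c8a616500b0c2054923c5ea2218304c9b01860ac93))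
noncomputable def a_u_t12 : BT Nat := (BT.leaf (nat_lit 0x77b91f4dccabef1f92c6be326f6c8b673ef0cce732eedcebaf36e1bddea530587532831078cadd0e074c2e46eac5e2a3711814fa67047e475e6d87a3fe62f571c726d5d73c0e6946a4d21a2fe9cd96eadb955129cdf87d0a713b9d35e1547ab615bd5aa7cbec762bed91a7868452eb2d2735a6bd21aa54edb5566dda293db4332bef9a548196cec868b28dd794628145a83ba792e6435335a0cf395fb26994de13356ab1f4358a6d7202c0a8dfa2b4367b2b47679fdae1ac4b05ba3361bcde25b725cdc6df6ccc49ea589c447f04bdc0dfef98eba59a275bbbc5f018cc255e0f6ac3c96e196c1c9234ec6b36ae716943dda0e2984015122862a5570662b195b1260b263cb75c2d258bb5e2c15cba562c564b6552d54ab3522bd4ea6612f97ec33b8208c0f49a11063202139322f4890c887d0002d462105184c48851100a66a46054349d4f0f9026739250f24b18a40fc8b4b8a05a7b1a85d1234371bce0734c21c76380ea28d23c4709c1a954b104ba822d9fcb29a508053e7a089f0a25027864669c122805849128a91a1e03908bc371f8e47a640a088b868330ac5c29268484636049b0ea0e0995cda7622814ac523a070a83a25180362040214b0022d0410c6518130e2180f920c6064923cd6782f898189b018588e55))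
noncomputable def a_u_TT : BT (BT Nat) := (BT.node (nat_lit 6) (BT.node (nat_lit 3) (BT.node (nat_lit 1) (BT.leaf a_u_t0) (BT.node (nat_lit 2) (BT.leaf a_u_t1) (BT.leaf a_u_t2))) (BT.node (nat_lit 4) (BT.leaf a_u_t3) (BT.node (nat_lit 5) (BT.leaf a_u_t4) (BT.leaf a_u_t5)))) (BT.node (nat_lit 9) (BT.node (nat_lit 7) (BT.leaf a_u_t6) (BT.node (nat_lit 8) (BT.leaf a_u_t7) (BT.leaf a_u_t8))) (BT.node (nat_lit 11) (BT.node (nat_lit 10) (BT.leaf a_u_t9) (BT.leaf a_u_t10)) (BT.node (nat_lit 12) (BT.leaf a_u_t11) (BT.leaf a_u_t12)))))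
noncomputable def a_c : List Lvl := [⟨(nat_lit 0), [[(nat_lit 10)],
  [(nat_lit 7)]], (nat_lit 7)⟩,
  ⟨(nat_lit 164), [[(nat_lit 8), (nat_lit 3), (nat_lit 2), (nat_lit 8)],
  [(nat_lit 8), (nat_lit 5), (nat_lit 8), (nat_lit 5)],
  [(nat_lit 11)]], (nat_lit 3)⟩,
  ⟨(nat_lit 1), [[(nat_lit 10), (nat_lit 6), (nat_lit 9), (nat_lit 5)]], (nat_lit 1)⟩,
  ⟨(nat_lit 3), [[(nat_lit 9), (nat_lit 8), (nat_lit 6), (nat_lit 10), (nat_lit 8), (nat_lit 4)]], (nat_lit 1)⟩,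
  ⟨(nat_lit 2), [[(nat_lit 9), (nat_lit 1), (nat_lit 1), (nat_lit 10)],
  [(nat_lit 8), (nat_lit 3), (nat_lit 8), (nat_lit 9), (nat_lit 1), (nat_lit 10), (nat_lit 3)]], (nat_lit 1)⟩]
noncomputable def a_X0 : List (List Nat) := [[]]
noncomputable def a_X1 : List (List Nat) := [[],
  [(nat_lit 1)]]
noncomputable def a_E0 : List Ent := [Ent.split [⟨[], (nat_lit 0), []⟩, ⟨[], (nat_lit 1), []⟩]]
noncomputable def a_X2 : List (List Nat) := [[],
  [(nat_lit 3)],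
  [(nat_lit 1)],
  [(nat_lit 1), (nat_lit 3)]]
noncomputable def a_E1 : List Ent := [Ent.split [⟨[], (nat_lit 0), []⟩, ⟨[], (nat_lit 1), []⟩],
  Ent.split [⟨[], (nat_lit 2), []⟩, ⟨[], (nat_lit 3), []⟩]]
noncomputable def a_X3 : List (List Nat) := [[],
  [(nat_lit 5)],
  [(nat_lit 3)],
  [(nat_lit 3), (nat_lit 5)],
  [(nat_lit 1)],
  [(nat_lit 1), (nat_lit 5)],
  [(nat_lit 1), (nat_lit 3)],
  [(nat_lit 1), (nat_lit 3), (nat_lit 5)]]
noncomputable def a_E2 : List Ent := [Ent.split [⟨[], (nat_lit 0), []⟩, ⟨[], (nat_lit 1), []⟩],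
  Ent.split [⟨[], (nat_lit 2), []⟩, ⟨[], (nat_lit 3), []⟩],
  Ent.split [⟨[], (nat_lit 4), []⟩, ⟨[], (nat_lit 5), []⟩],
  Ent.split [⟨[], (nat_lit 6), []⟩, ⟨[], (nat_lit 7), []⟩]]
noncomputable def a_X4 : List (List Nat) := [[],
  [(nat_lit 7)],
  [(nat_lit 5)],
  [(nat_lit 5), (nat_lit 7)],
  [(nat_lit 3)],
  [(nat_lit 3), (nat_lit 7)],
  [(nat_lit 3), (nat_lit 5)],
  [(nat_lit 3), (nat_lit 5), (nat_lit 7)],
  [(nat_lit 1)],
  [(nat_lit 1), (nat_lit 7)],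
  [(nat_lit 1), (nat_lit 5)],
  [(nat_lit 1), (nat_lit 5), (nat_lit 7)],
  [(nat_lit 1), (nat_lit 3)],
  [(nat_lit 1), (nat_lit 3), (nat_lit 7)],
  [(nat_lit 1), (nat_lit 3), (nat_lit 5)],
  [(nat_lit 1), (nat_lit 3), (nat_lit 5), (nat_lit 7)]]
noncomputable def a_E3 : List Ent := [Ent.split [⟨[], (nat_lit 0), []⟩, ⟨[], (nat_lit 1), []⟩],
  Ent.split [⟨[], (nat_lit 2), []⟩, ⟨[], (nat_lit 3), []⟩],
  Ent.split [⟨[], (nat_lit 4), []⟩, ⟨[], (nat_lit 5), []⟩],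
  Ent.split [⟨[], (nat_lit 6), []⟩, ⟨[], (nat_lit 7), []⟩],
  Ent.split [⟨[], (nat_lit 8), []⟩, ⟨[], (nat_lit 9), []⟩],
  Ent.split [⟨[], (nat_lit 10), []⟩, ⟨[], (nat_lit 11), []⟩],
  Ent.split [⟨[], (nat_lit 12), []⟩, ⟨[], (nat_lit 13), []⟩],
  Ent.split [⟨[], (nat_lit 14), []⟩, ⟨[], (nat_lit 15), []⟩]]
noncomputable def a_X5 : List (List Nat) := [[],
  [(nat_lit 9)],
  [(nat_lit 7)],
  [(nat_lit 5)],
  [(nat_lit 5), (nat_lit 7)],
  [(nat_lit 3)],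
  [(nat_lit 3), (nat_lit 5)],
  [(nat_lit 1), (nat_lit 7)],
  [(nat_lit 1), (nat_lit 5)],
  [(nat_lit 1), (nat_lit 3), (nat_lit 5)],
  [(nat_lit 1), (nat_lit 3), (nat_lit 5), (nat_lit 7)]]
noncomputable def a_E4 : List Ent := [Ent.split [⟨[], (nat_lit 0), []⟩, ⟨[], (nat_lit 1), []⟩],
  Ent.merge [(nat_lit 3)] (nat_lit 1) [(nat_lit 3), (nat_lit 5), (nat_lit 7), (nat_lit 13), (nat_lit 17), (nat_lit 19)] ⟨[], (nat_lit 2), []⟩,
  Ent.merge [(nat_lit 1)] (nat_lit 1) [(nat_lit 3), (nat_lit 5), (nat_lit 7), (nat_lit 15), (nat_lit 17)] ⟨[], (nat_lit 3), []⟩,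
  Ent.merge [(nat_lit 3)] (nat_lit 1) [(nat_lit 1), (nat_lit 3), (nat_lit 7), (nat_lit 11)] ⟨[], (nat_lit 4), []⟩,
  Ent.merge [(nat_lit 7)] (nat_lit 1) [(nat_lit 3), (nat_lit 5), (nat_lit 7), (nat_lit 13)] ⟨[], (nat_lit 5), []⟩,
  Ent.dead (nat_lit 1) [(nat_lit 3), (nat_lit 5), (nat_lit 7)],
  Ent.merge [(nat_lit 7)] (nat_lit 1) [(nat_lit 3), (nat_lit 5), (nat_lit 7), (nat_lit 13), (nat_lit 15), (nat_lit 17)] ⟨[], (nat_lit 6), []⟩,
  Ent.dead (nat_lit 1) [(nat_lit 1), (nat_lit 3), (nat_lit 7), (nat_lit 9), (nat_lit 11), (nat_lit 13), (nat_lit 17), (nat_lit 19)],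
  Ent.dead (nat_lit 1) [(nat_lit 3), (nat_lit 5), (nat_lit 9), (nat_lit 17)],
  Ent.merge [(nat_lit 7)] (nat_lit 1) [(nat_lit 1), (nat_lit 3), (nat_lit 7), (nat_lit 9), (nat_lit 11), (nat_lit 13)] ⟨[], (nat_lit 7), []⟩,
  Ent.merge [(nat_lit 7)] (nat_lit 1) [(nat_lit 1), (nat_lit 3), (nat_lit 7), (nat_lit 9), (nat_lit 11), (nat_lit 13), (nat_lit 15), (nat_lit 17), (nat_lit 19)] ⟨[], (nat_lit 8), []⟩,
  Ent.dead (nat_lit 1) [(nat_lit 1), (nat_lit 3), (nat_lit 17)],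
  Ent.dead (nat_lit 1) [(nat_lit 1), (nat_lit 3), (nat_lit 5), (nat_lit 7), (nat_lit 9), (nat_lit 11)],
  Ent.dead (nat_lit 1) [(nat_lit 3), (nat_lit 7), (nat_lit 11), (nat_lit 13), (nat_lit 17)],
  Ent.merge [(nat_lit 5)] (nat_lit 1) [(nat_lit 1), (nat_lit 3), (nat_lit 7), (nat_lit 9), (nat_lit 11), (nat_lit 13), (nat_lit 19)] ⟨[], (nat_lit 9), []⟩,
  Ent.merge [(nat_lit 5)] (nat_lit 1) [(nat_lit 1), (nat_lit 3), (nat_lit 7), (nat_lit 9), (nat_lit 11), (nat_lit 13), (nat_lit 15)] ⟨[], (nat_lit 10), []⟩]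
noncomputable def a_X6 : List (List Nat) := [[],
  [(nat_lit 11)],
  [(nat_lit 9)],
  [(nat_lit 9), (nat_lit 11)],
  [(nat_lit 7)],
  [(nat_lit 5)],
  [(nat_lit 5), (nat_lit 7)],
  [(nat_lit 3)],
  [(nat_lit 1), (nat_lit 5)],
  [(nat_lit 1), (nat_lit 3), (nat_lit 5)]]
noncomputable def a_E5 : List Ent := [Ent.split [⟨[], (nat_lit 0), []⟩, ⟨[], (nat_lit 1), []⟩],
  Ent.split [⟨[], (nat_lit 2), []⟩, ⟨[], (nat_lit 3), []⟩],
  Ent.merge [(nat_lit 1), (nat_lit 3), (nat_lit 21), (nat_lit 25), (nat_lit 27), (nat_lit 29)] (nat_lit 1) [(nat_lit 3), (nat_lit 7), (nat_lit 9), (nat_lit 13), (nat_lit 15), (nat_lit 17)] ⟨[], (nat_lit 4), []⟩,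
  Ent.merge [(nat_lit 3)] (nat_lit 1) [(nat_lit 3), (nat_lit 15), (nat_lit 17)] ⟨[], (nat_lit 5), []⟩,
  Ent.merge [(nat_lit 1)] (nat_lit 1) [(nat_lit 3), (nat_lit 9), (nat_lit 11)] ⟨[], (nat_lit 6), []⟩,
  Ent.merge [(nat_lit 5)] (nat_lit 1) [(nat_lit 3), (nat_lit 17)] ⟨[], (nat_lit 7), []⟩,
  Ent.dead (nat_lit 1) [(nat_lit 3), (nat_lit 7), (nat_lit 9), (nat_lit 15), (nat_lit 17)],
  Ent.dead (nat_lit 1) [(nat_lit 3), (nat_lit 5), (nat_lit 9), (nat_lit 11), (nat_lit 17)],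
  Ent.merge [(nat_lit 5), (nat_lit 7), (nat_lit 21), (nat_lit 23), (nat_lit 25), (nat_lit 27), (nat_lit 29)] (nat_lit 1) [(nat_lit 3), (nat_lit 13), (nat_lit 17)] ⟨[], (nat_lit 8), []⟩,
  Ent.merge [(nat_lit 7)] (nat_lit 1) [(nat_lit 3), (nat_lit 7), (nat_lit 11), (nat_lit 13), (nat_lit 15)] ⟨[], (nat_lit 9), []⟩,
  Ent.dead (nat_lit 1) [(nat_lit 9), (nat_lit 11), (nat_lit 13)]]
noncomputable def a_X7 : List (List Nat) := [[],
  [(nat_lit 13)],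
  [(nat_lit 11)],
  [(nat_lit 11), (nat_lit 13)],
  [(nat_lit 9)],
  [(nat_lit 9), (nat_lit 13)],
  [(nat_lit 9), (nat_lit 11)],
  [(nat_lit 9), (nat_lit 11), (nat_lit 13)],
  [(nat_lit 7)],
  [(nat_lit 7), (nat_lit 13)],
  [(nat_lit 5)],
  [(nat_lit 5), (nat_lit 13)],
  [(nat_lit 5), (nat_lit 7)],
  [(nat_lit 5), (nat_lit 7), (nat_lit 13)],
  [(nat_lit 3)],
  [(nat_lit 3), (nat_lit 13)],
  [(nat_lit 1), (nat_lit 5)],
  [(nat_lit 1), (nat_lit 5), (nat_lit 13)],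
  [(nat_lit 1), (nat_lit 3), (nat_lit 5)],
  [(nat_lit 1), (nat_lit 3), (nat_lit 5), (nat_lit 13)]]
noncomputable def a_E6 : List Ent := [Ent.split [⟨[], (nat_lit 0), []⟩, ⟨[], (nat_lit 1), []⟩],
  Ent.split [⟨[], (nat_lit 2), []⟩, ⟨[], (nat_lit 3), []⟩],
  Ent.split [⟨[], (nat_lit 4), []⟩, ⟨[], (nat_lit 5), []⟩],
  Ent.split [⟨[], (nat_lit 6), []⟩, ⟨[], (nat_lit 7), []⟩],
  Ent.split [⟨[], (nat_lit 8), []⟩, ⟨[], (nat_lit 9), []⟩],
  Ent.split [⟨[], (nat_lit 10), []⟩, ⟨[], (nat_lit 11), []⟩],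
  Ent.split [⟨[], (nat_lit 12), []⟩, ⟨[], (nat_lit 13), []⟩],
  Ent.split [⟨[], (nat_lit 14), []⟩, ⟨[], (nat_lit 15), []⟩],
  Ent.split [⟨[], (nat_lit 16), []⟩, ⟨[], (nat_lit 17), []⟩],
  Ent.split [⟨[], (nat_lit 18), []⟩, ⟨[], (nat_lit 19), []⟩]]
noncomputable def a_X8 : List (List Nat) := [[],
  [(nat_lit 15)],
  [(nat_lit 13)],
  [(nat_lit 11)],
  [(nat_lit 11), (nat_lit 15)],
  [(nat_lit 11), (nat_lit 13)],
  [(nat_lit 9)],
  [(nat_lit 9), (nat_lit 13)],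
  [(nat_lit 9), (nat_lit 13), (nat_lit 15)],
  [(nat_lit 9), (nat_lit 11)],
  [(nat_lit 9), (nat_lit 11), (nat_lit 13)],
  [(nat_lit 9), (nat_lit 11), (nat_lit 13), (nat_lit 15)],
  [(nat_lit 7)],
  [(nat_lit 7), (nat_lit 15)],
  [(nat_lit 7), (nat_lit 13)],
  [(nat_lit 7), (nat_lit 13), (nat_lit 15)],
  [(nat_lit 5)],
  [(nat_lit 5), (nat_lit 15)],
  [(nat_lit 5), (nat_lit 13)],
  [(nat_lit 5), (nat_lit 13), (nat_lit 15)],
  [(nat_lit 5), (nat_lit 7)],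
  [(nat_lit 5), (nat_lit 7), (nat_lit 15)],
  [(nat_lit 5), (nat_lit 7), (nat_lit 13)],
  [(nat_lit 5), (nat_lit 7), (nat_lit 13), (nat_lit 15)],
  [(nat_lit 3)],
  [(nat_lit 1), (nat_lit 5)],
  [(nat_lit 1), (nat_lit 5), (nat_lit 13)],
  [(nat_lit 1), (nat_lit 5), (nat_lit 13), (nat_lit 15)],
  [(nat_lit 1), (nat_lit 3), (nat_lit 5), (nat_lit 13)]]
noncomputable def a_E7 : List Ent := [Ent.split [⟨[], (nat_lit 0), []⟩, ⟨[], (nat_lit 1), []⟩],
  Ent.merge [(nat_lit 3)] (nat_lit 1) [(nat_lit 1), (nat_lit 9), (nat_lit 13)] ⟨[], (nat_lit 2), []⟩,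
  Ent.split [⟨[], (nat_lit 3), []⟩, ⟨[], (nat_lit 4), []⟩],
  Ent.merge [(nat_lit 3)] (nat_lit 1) [(nat_lit 1), (nat_lit 5), (nat_lit 13)] ⟨[], (nat_lit 5), []⟩,
  Ent.merge [(nat_lit 3)] (nat_lit 1) [(nat_lit 1), (nat_lit 9), (nat_lit 11), (nat_lit 13)] ⟨[], (nat_lit 6), []⟩,
  Ent.split [⟨[], (nat_lit 7), []⟩, ⟨[], (nat_lit 8), []⟩],
  Ent.merge [(nat_lit 3)] (nat_lit 1) [(nat_lit 1), (nat_lit 5), (nat_lit 9), (nat_lit 11)] ⟨[], (nat_lit 9), []⟩,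
  Ent.split [⟨[], (nat_lit 10), []⟩, ⟨[], (nat_lit 11), []⟩],
  Ent.split [⟨[], (nat_lit 12), []⟩, ⟨[], (nat_lit 13), []⟩],
  Ent.split [⟨[], (nat_lit 14), []⟩, ⟨[], (nat_lit 15), []⟩],
  Ent.split [⟨[], (nat_lit 16), []⟩, ⟨[], (nat_lit 17), []⟩],
  Ent.split [⟨[], (nat_lit 18), []⟩, ⟨[], (nat_lit 19), []⟩],
  Ent.split [⟨[], (nat_lit 20), []⟩, ⟨[], (nat_lit 21), []⟩],
  Ent.split [⟨[], (nat_lit 22), []⟩, ⟨[], (nat_lit 23), []⟩],
  Ent.merge [(nat_lit 13)] (nat_lit 1) [(nat_lit 1), (nat_lit 9), (nat_lit 13)] ⟨[], (nat_lit 24), []⟩,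
  Ent.dead (nat_lit 1) [(nat_lit 1), (nat_lit 5), (nat_lit 11)],
  Ent.merge [(nat_lit 3)] (nat_lit 1) [(nat_lit 1), (nat_lit 9), (nat_lit 13)] ⟨[], (nat_lit 25), []⟩,
  Ent.split [⟨[], (nat_lit 26), []⟩, ⟨[], (nat_lit 27), []⟩],
  Ent.dead (nat_lit 1) [(nat_lit 3), (nat_lit 7), (nat_lit 11), (nat_lit 13)],
  Ent.merge [(nat_lit 13)] (nat_lit 1) [(nat_lit 3), (nat_lit 5), (nat_lit 7), (nat_lit 11)] ⟨[], (nat_lit 28), []⟩]
noncomputable def a_X9 : List (List Nat) := [[],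
  [(nat_lit 17)],
  [(nat_lit 15)],
  [(nat_lit 15), (nat_lit 17)],
  [(nat_lit 13)],
  [(nat_lit 11)],
  [(nat_lit 11), (nat_lit 17)],
  [(nat_lit 11), (nat_lit 15)],
  [(nat_lit 11), (nat_lit 15), (nat_lit 17)],
  [(nat_lit 11), (nat_lit 13)],
  [(nat_lit 9)],
  [(nat_lit 9), (nat_lit 13)],
  [(nat_lit 9), (nat_lit 13), (nat_lit 17)],
  [(nat_lit 9), (nat_lit 13), (nat_lit 15)],
  [(nat_lit 9), (nat_lit 13), (nat_lit 15), (nat_lit 17)],
  [(nat_lit 9), (nat_lit 11)],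
  [(nat_lit 9), (nat_lit 11), (nat_lit 13)],
  [(nat_lit 9), (nat_lit 11), (nat_lit 13), (nat_lit 17)],
  [(nat_lit 9), (nat_lit 11), (nat_lit 13), (nat_lit 15)],
  [(nat_lit 9), (nat_lit 11), (nat_lit 13), (nat_lit 15), (nat_lit 17)],
  [(nat_lit 7)],
  [(nat_lit 7), (nat_lit 17)],
  [(nat_lit 7), (nat_lit 15)],
  [(nat_lit 7), (nat_lit 15), (nat_lit 17)],
  [(nat_lit 7), (nat_lit 13)],
  [(nat_lit 7), (nat_lit 13), (nat_lit 17)],
  [(nat_lit 7), (nat_lit 13), (nat_lit 15)],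
  [(nat_lit 7), (nat_lit 13), (nat_lit 15), (nat_lit 17)],
  [(nat_lit 5)],
  [(nat_lit 5), (nat_lit 17)],
  [(nat_lit 5), (nat_lit 15)],
  [(nat_lit 5), (nat_lit 15), (nat_lit 17)],
  [(nat_lit 5), (nat_lit 13)],
  [(nat_lit 5), (nat_lit 13), (nat_lit 17)],
  [(nat_lit 5), (nat_lit 13), (nat_lit 15)],
  [(nat_lit 5), (nat_lit 13), (nat_lit 15), (nat_lit 17)],
  [(nat_lit 5), (nat_lit 7)],
  [(nat_lit 5), (nat_lit 7), (nat_lit 17)],
  [(nat_lit 5), (nat_lit 7), (nat_lit 15)],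
  [(nat_lit 5), (nat_lit 7), (nat_lit 15), (nat_lit 17)],
  [(nat_lit 5), (nat_lit 7), (nat_lit 13)],
  [(nat_lit 5), (nat_lit 7), (nat_lit 13), (nat_lit 17)],
  [(nat_lit 5), (nat_lit 7), (nat_lit 13), (nat_lit 15)],
  [(nat_lit 5), (nat_lit 7), (nat_lit 13), (nat_lit 15), (nat_lit 17)],
  [(nat_lit 3)],
  [(nat_lit 3), (nat_lit 17)],
  [(nat_lit 1), (nat_lit 5), (nat_lit 13)],
  [(nat_lit 1), (nat_lit 5), (nat_lit 13), (nat_lit 15)],
  [(nat_lit 1), (nat_lit 3), (nat_lit 5), (nat_lit 13)],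
  [(nat_lit 1), (nat_lit 3), (nat_lit 5), (nat_lit 13), (nat_lit 17)]]
noncomputable def a_E8 : List Ent := [Ent.split [⟨[], (nat_lit 0), []⟩, ⟨[], (nat_lit 1), []⟩],
  Ent.split [⟨[], (nat_lit 2), []⟩, ⟨[], (nat_lit 3), []⟩],
  Ent.merge [(nat_lit 1)] (nat_lit 1) [(nat_lit 5), (nat_lit 9), (nat_lit 11)] ⟨[], (nat_lit 4), []⟩,
  Ent.split [⟨[], (nat_lit 5), []⟩, ⟨[], (nat_lit 6), []⟩],
  Ent.split [⟨[], (nat_lit 7), []⟩, ⟨[], (nat_lit 8), []⟩],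
  Ent.merge [(nat_lit 1)] (nat_lit 1) [(nat_lit 1), (nat_lit 3), (nat_lit 5)] ⟨[], (nat_lit 9), []⟩,
  Ent.merge [(nat_lit 1)] (nat_lit 1) [(nat_lit 1), (nat_lit 7), (nat_lit 11)] ⟨[], (nat_lit 10), []⟩,
  Ent.split [⟨[], (nat_lit 11), []⟩, ⟨[], (nat_lit 12), []⟩],
  Ent.split [⟨[], (nat_lit 13), []⟩, ⟨[], (nat_lit 14), []⟩],
  Ent.merge [(nat_lit 1)] (nat_lit 1) [(nat_lit 3), (nat_lit 7), (nat_lit 11)] ⟨[], (nat_lit 15), []⟩,
  Ent.split [⟨[], (nat_lit 16), []⟩, ⟨[], (nat_lit 17), []⟩],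
  Ent.split [⟨[], (nat_lit 18), []⟩, ⟨[], (nat_lit 19), []⟩],
  Ent.split [⟨[], (nat_lit 20), []⟩, ⟨[], (nat_lit 21), []⟩],
  Ent.split [⟨[], (nat_lit 22), []⟩, ⟨[], (nat_lit 23), []⟩],
  Ent.split [⟨[], (nat_lit 24), []⟩, ⟨[], (nat_lit 25), []⟩],
  Ent.split [⟨[], (nat_lit 26), []⟩, ⟨[], (nat_lit 27), []⟩],
  Ent.split [⟨[], (nat_lit 28), []⟩, ⟨[], (nat_lit 29), []⟩],
  Ent.split [⟨[], (nat_lit 30), []⟩, ⟨[], (nat_lit 31), []⟩],
  Ent.split [⟨[], (nat_lit 32), []⟩, ⟨[], (nat_lit 33), []⟩],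
  Ent.split [⟨[], (nat_lit 34), []⟩, ⟨[], (nat_lit 35), []⟩],
  Ent.split [⟨[], (nat_lit 36), []⟩, ⟨[], (nat_lit 37), []⟩],
  Ent.split [⟨[], (nat_lit 38), []⟩, ⟨[], (nat_lit 39), []⟩],
  Ent.split [⟨[], (nat_lit 40), []⟩, ⟨[], (nat_lit 41), []⟩],
  Ent.split [⟨[], (nat_lit 42), []⟩, ⟨[], (nat_lit 43), []⟩],
  Ent.split [⟨[], (nat_lit 44), []⟩, ⟨[], (nat_lit 45), []⟩],
  Ent.dead (nat_lit 1) [(nat_lit 1), (nat_lit 7)],
  Ent.merge [(nat_lit 13)] (nat_lit 1) [(nat_lit 1), (nat_lit 3), (nat_lit 9), (nat_lit 11)] ⟨[], (nat_lit 46), []⟩,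
  Ent.merge [(nat_lit 13)] (nat_lit 1) [(nat_lit 1), (nat_lit 3), (nat_lit 9), (nat_lit 11)] ⟨[], (nat_lit 47), []⟩,
  Ent.split [⟨[], (nat_lit 48), []⟩, ⟨[], (nat_lit 49), []⟩]]
noncomputable def a_X10 : List (List Nat) := [[],
  [(nat_lit 19)],
  [(nat_lit 17)],
  [(nat_lit 15)],
  [(nat_lit 15), (nat_lit 17)],
  [(nat_lit 13)],
  [(nat_lit 11)],
  [(nat_lit 11), (nat_lit 17)],
  [(nat_lit 11), (nat_lit 15)],
  [(nat_lit 11), (nat_lit 15), (nat_lit 19)],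
  [(nat_lit 11), (nat_lit 15), (nat_lit 17)],
  [(nat_lit 11), (nat_lit 13)],
  [(nat_lit 9), (nat_lit 13)],
  [(nat_lit 9), (nat_lit 13), (nat_lit 17)],
  [(nat_lit 9), (nat_lit 13), (nat_lit 15)],
  [(nat_lit 9), (nat_lit 13), (nat_lit 15), (nat_lit 17)],
  [(nat_lit 9), (nat_lit 11), (nat_lit 13)],
  [(nat_lit 9), (nat_lit 11), (nat_lit 13), (nat_lit 17)],
  [(nat_lit 9), (nat_lit 11), (nat_lit 13), (nat_lit 15)],
  [(nat_lit 9), (nat_lit 11), (nat_lit 13), (nat_lit 15), (nat_lit 17)],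
  [(nat_lit 7)],
  [(nat_lit 7), (nat_lit 15)],
  [(nat_lit 7), (nat_lit 13), (nat_lit 17)],
  [(nat_lit 7), (nat_lit 13), (nat_lit 15), (nat_lit 17)],
  [(nat_lit 5), (nat_lit 17)],
  [(nat_lit 5), (nat_lit 15)],
  [(nat_lit 5), (nat_lit 13)],
  [(nat_lit 5), (nat_lit 13), (nat_lit 15), (nat_lit 17)],
  [(nat_lit 5), (nat_lit 7), (nat_lit 15)],
  [(nat_lit 5), (nat_lit 7), (nat_lit 15), (nat_lit 17)],
  [(nat_lit 5), (nat_lit 7), (nat_lit 13), (nat_lit 15)],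
  [(nat_lit 5), (nat_lit 7), (nat_lit 13), (nat_lit 15), (nat_lit 17)],
  [(nat_lit 3)],
  [(nat_lit 3), (nat_lit 19)],
  [(nat_lit 3), (nat_lit 17)],
  [(nat_lit 3), (nat_lit 17), (nat_lit 19)],
  [(nat_lit 1), (nat_lit 5), (nat_lit 13)],
  [(nat_lit 1), (nat_lit 5), (nat_lit 13), (nat_lit 19)],
  [(nat_lit 1), (nat_lit 5), (nat_lit 13), (nat_lit 15)],
  [(nat_lit 1), (nat_lit 5), (nat_lit 13), (nat_lit 15), (nat_lit 19)],
  [(nat_lit 1), (nat_lit 3), (nat_lit 5), (nat_lit 13)],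
  [(nat_lit 1), (nat_lit 3), (nat_lit 5), (nat_lit 13), (nat_lit 19)],
  [(nat_lit 1), (nat_lit 3), (nat_lit 5), (nat_lit 13), (nat_lit 17)],
  [(nat_lit 1), (nat_lit 3), (nat_lit 5), (nat_lit 13), (nat_lit 17), (nat_lit 19)]]
noncomputable def a_E9 : List Ent := [Ent.split [⟨[], (nat_lit 0), []⟩, ⟨[], (nat_lit 1), []⟩],
  Ent.merge [(nat_lit 7)] (nat_lit 1) [(nat_lit 1), (nat_lit 3), (nat_lit 9)] ⟨[], (nat_lit 2), []⟩,
  Ent.merge [(nat_lit 5)] (nat_lit 1) [(nat_lit 1), (nat_lit 3), (nat_lit 5), (nat_lit 7)] ⟨[], (nat_lit 3), []⟩,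
  Ent.merge [(nat_lit 7)] (nat_lit 1) [(nat_lit 5), (nat_lit 7), (nat_lit 9)] ⟨[], (nat_lit 4), []⟩,
  Ent.merge [(nat_lit 9)] (nat_lit 1) [(nat_lit 7)] ⟨[], (nat_lit 5), []⟩,
  Ent.merge [(nat_lit 5)] (nat_lit 1) [(nat_lit 1), (nat_lit 3)] ⟨[], (nat_lit 6), []⟩,
  Ent.merge [(nat_lit 7)] (nat_lit 1) [(nat_lit 5), (nat_lit 7), (nat_lit 9)] ⟨[], (nat_lit 7), []⟩,
  Ent.split [⟨[], (nat_lit 8), []⟩, ⟨[], (nat_lit 9), []⟩],
  Ent.merge [(nat_lit 7)] (nat_lit 1) [(nat_lit 1), (nat_lit 3), (nat_lit 9)] ⟨[], (nat_lit 10), []⟩,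
  Ent.merge [(nat_lit 9)] (nat_lit 1) [(nat_lit 1), (nat_lit 3)] ⟨[], (nat_lit 11), []⟩,
  Ent.dead (nat_lit 1) [(nat_lit 5), (nat_lit 9)],
  Ent.merge [(nat_lit 13)] (nat_lit 1) [(nat_lit 7)] ⟨[], (nat_lit 12), []⟩,
  Ent.merge [(nat_lit 13)] (nat_lit 1) [(nat_lit 7)] ⟨[], (nat_lit 13), []⟩,
  Ent.merge [(nat_lit 13)] (nat_lit 1) [(nat_lit 7)] ⟨[], (nat_lit 14), []⟩,
  Ent.merge [(nat_lit 13)] (nat_lit 1) [(nat_lit 7)] ⟨[], (nat_lit 15), []⟩,
  Ent.dead (nat_lit 1) [(nat_lit 1), (nat_lit 3)],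
  Ent.merge [(nat_lit 13)] (nat_lit 1) [(nat_lit 1), (nat_lit 3), (nat_lit 5), (nat_lit 7)] ⟨[], (nat_lit 16), []⟩,
  Ent.merge [(nat_lit 13)] (nat_lit 1) [(nat_lit 1), (nat_lit 3), (nat_lit 5), (nat_lit 7)] ⟨[], (nat_lit 17), []⟩,
  Ent.merge [(nat_lit 13)] (nat_lit 1) [(nat_lit 1), (nat_lit 3), (nat_lit 5), (nat_lit 7)] ⟨[], (nat_lit 18), []⟩,
  Ent.merge [(nat_lit 13)] (nat_lit 1) [(nat_lit 1), (nat_lit 3), (nat_lit 5), (nat_lit 7)] ⟨[], (nat_lit 19), []⟩,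
  Ent.merge [(nat_lit 17)] (nat_lit 1) [(nat_lit 1), (nat_lit 3), (nat_lit 9)] ⟨[], (nat_lit 20), []⟩,
  Ent.dead (nat_lit 1) [(nat_lit 5), (nat_lit 7)],
  Ent.merge [(nat_lit 17)] (nat_lit 1) [(nat_lit 1), (nat_lit 3), (nat_lit 9)] ⟨[], (nat_lit 21), []⟩,
  Ent.dead (nat_lit 1) [(nat_lit 1), (nat_lit 3)],
  Ent.dead (nat_lit 1) [(nat_lit 9)],
  Ent.merge [(nat_lit 17)] (nat_lit 1) [(nat_lit 1), (nat_lit 3), (nat_lit 9)] ⟨[], (nat_lit 22), []⟩,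
  Ent.dead (nat_lit 1) [(nat_lit 1), (nat_lit 3), (nat_lit 5), (nat_lit 7), (nat_lit 9)],
  Ent.merge [(nat_lit 17)] (nat_lit 1) [(nat_lit 1), (nat_lit 3), (nat_lit 9)] ⟨[], (nat_lit 23), []⟩,
  Ent.dead (nat_lit 1) [(nat_lit 5), (nat_lit 9)],
  Ent.merge [(nat_lit 17)] (nat_lit 1) [(nat_lit 5), (nat_lit 9)] ⟨[], (nat_lit 24), []⟩,
  Ent.merge [(nat_lit 17)] (nat_lit 1) [(nat_lit 5), (nat_lit 9)] ⟨[], (nat_lit 25), []⟩,
  Ent.dead (nat_lit 1) [(nat_lit 1), (nat_lit 3), (nat_lit 5), (nat_lit 7)],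
  Ent.merge [(nat_lit 17)] (nat_lit 1) [(nat_lit 5), (nat_lit 9)] ⟨[], (nat_lit 26), []⟩,
  Ent.dead (nat_lit 1) [(nat_lit 1), (nat_lit 3), (nat_lit 5), (nat_lit 7)],
  Ent.dead (nat_lit 1) [(nat_lit 5), (nat_lit 9)],
  Ent.merge [(nat_lit 17)] (nat_lit 1) [(nat_lit 5), (nat_lit 9)] ⟨[], (nat_lit 27), []⟩,
  Ent.dead (nat_lit 1) [(nat_lit 1), (nat_lit 3), (nat_lit 5), (nat_lit 9)],
  Ent.dead (nat_lit 1) [],
  Ent.merge [(nat_lit 15)] (nat_lit 1) [] ⟨[], (nat_lit 28), []⟩,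
  Ent.merge [(nat_lit 15)] (nat_lit 1) [] ⟨[], (nat_lit 29), []⟩,
  Ent.dead (nat_lit 1) [(nat_lit 1), (nat_lit 3), (nat_lit 5), (nat_lit 9)],
  Ent.dead (nat_lit 1) [],
  Ent.merge [(nat_lit 15)] (nat_lit 1) [] ⟨[], (nat_lit 30), []⟩,
  Ent.merge [(nat_lit 15)] (nat_lit 1) [] ⟨[], (nat_lit 31), []⟩,
  Ent.split [⟨[], (nat_lit 32), []⟩, ⟨[], (nat_lit 33), []⟩],
  Ent.split [⟨[], (nat_lit 34), []⟩, ⟨[], (nat_lit 35), []⟩],
  Ent.split [⟨[], (nat_lit 36), []⟩, ⟨[], (nat_lit 37), []⟩],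
  Ent.split [⟨[], (nat_lit 38), []⟩, ⟨[], (nat_lit 39), []⟩],
  Ent.split [⟨[], (nat_lit 40), []⟩, ⟨[], (nat_lit 41), []⟩],
  Ent.split [⟨[], (nat_lit 42), []⟩, ⟨[], (nat_lit 43), []⟩]]
noncomputable def a_X11 : List (List Nat) := [[],
  [(nat_lit 21)],
  [(nat_lit 19)],
  [(nat_lit 19), (nat_lit 21)],
  [(nat_lit 17)],
  [(nat_lit 15)],
  [(nat_lit 15), (nat_lit 17)],
  [(nat_lit 13)],
  [(nat_lit 11)],
  [(nat_lit 11), (nat_lit 17)],
  [(nat_lit 11), (nat_lit 15)],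
  [(nat_lit 11), (nat_lit 15), (nat_lit 19)],
  [(nat_lit 11), (nat_lit 15), (nat_lit 17)],
  [(nat_lit 9), (nat_lit 13)],
  [(nat_lit 9), (nat_lit 13), (nat_lit 17)],
  [(nat_lit 9), (nat_lit 13), (nat_lit 15)],
  [(nat_lit 9), (nat_lit 13), (nat_lit 15), (nat_lit 17)],
  [(nat_lit 9), (nat_lit 13), (nat_lit 15), (nat_lit 17), (nat_lit 21)],
  [(nat_lit 9), (nat_lit 11), (nat_lit 13)],
  [(nat_lit 9), (nat_lit 11), (nat_lit 13), (nat_lit 17)],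
  [(nat_lit 9), (nat_lit 11), (nat_lit 13), (nat_lit 17), (nat_lit 21)],
  [(nat_lit 9), (nat_lit 11), (nat_lit 13), (nat_lit 15)],
  [(nat_lit 9), (nat_lit 11), (nat_lit 13), (nat_lit 15), (nat_lit 17)],
  [(nat_lit 7), (nat_lit 15)],
  [(nat_lit 7), (nat_lit 13), (nat_lit 15), (nat_lit 17)],
  [(nat_lit 5), (nat_lit 17)],
  [(nat_lit 5), (nat_lit 13), (nat_lit 15), (nat_lit 17)],
  [(nat_lit 5), (nat_lit 7), (nat_lit 15), (nat_lit 17)],
  [(nat_lit 5), (nat_lit 7), (nat_lit 13), (nat_lit 15), (nat_lit 17)],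
  [(nat_lit 3), (nat_lit 17)],
  [(nat_lit 3), (nat_lit 17), (nat_lit 19)],
  [(nat_lit 1), (nat_lit 5), (nat_lit 13), (nat_lit 15)],
  [(nat_lit 1), (nat_lit 5), (nat_lit 13), (nat_lit 15), (nat_lit 19)],
  [(nat_lit 1), (nat_lit 3), (nat_lit 5), (nat_lit 13), (nat_lit 17)],
  [(nat_lit 1), (nat_lit 3), (nat_lit 5), (nat_lit 13), (nat_lit 17), (nat_lit 19)]]
noncomputable def a_E10 : List Ent := [Ent.split [⟨[], (nat_lit 0), []⟩, ⟨[], (nat_lit 1), []⟩],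
  Ent.split [⟨[], (nat_lit 2), []⟩, ⟨[], (nat_lit 3), []⟩],
  Ent.merge [(nat_lit 5), (nat_lit 7), (nat_lit 21), (nat_lit 23), (nat_lit 25), (nat_lit 27), (nat_lit 29)] (nat_lit 1) [(nat_lit 1), (nat_lit 3), (nat_lit 7)] ⟨[], (nat_lit 4), []⟩,
  Ent.merge [(nat_lit 7)] (nat_lit 1) [(nat_lit 1), (nat_lit 3), (nat_lit 5)] ⟨[], (nat_lit 5), []⟩,
  Ent.merge [(nat_lit 5)] (nat_lit 1) [(nat_lit 1), (nat_lit 5), (nat_lit 7)] ⟨[], (nat_lit 6), []⟩,
  Ent.merge [(nat_lit 11)] (nat_lit 1) [(nat_lit 1), (nat_lit 3), (nat_lit 7)] ⟨[], (nat_lit 7), []⟩,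
  Ent.merge [(nat_lit 13)] (nat_lit 1) [(nat_lit 1), (nat_lit 3), (nat_lit 7)] ⟨[], (nat_lit 8), []⟩,
  Ent.merge [(nat_lit 13)] (nat_lit 1) [(nat_lit 1), (nat_lit 3), (nat_lit 7)] ⟨[], (nat_lit 9), []⟩,
  Ent.merge [(nat_lit 13)] (nat_lit 1) [(nat_lit 1), (nat_lit 3), (nat_lit 7)] ⟨[], (nat_lit 10), []⟩,
  Ent.merge [(nat_lit 13)] (nat_lit 1) [(nat_lit 1), (nat_lit 3), (nat_lit 7)] ⟨[], (nat_lit 11), []⟩,
  Ent.merge [(nat_lit 13)] (nat_lit 1) [(nat_lit 1), (nat_lit 3), (nat_lit 7)] ⟨[], (nat_lit 12), []⟩,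
  Ent.dead (nat_lit 1) [(nat_lit 1), (nat_lit 5), (nat_lit 7)],
  Ent.merge [(nat_lit 5)] (nat_lit 1) [(nat_lit 1), (nat_lit 3), (nat_lit 5), (nat_lit 7)] ⟨[], (nat_lit 13), []⟩,
  Ent.merge [(nat_lit 7)] (nat_lit 1) [(nat_lit 1), (nat_lit 3)] ⟨[], (nat_lit 14), []⟩,
  Ent.merge [(nat_lit 7), (nat_lit 13)] (nat_lit 1) [(nat_lit 1)] ⟨[], (nat_lit 15), []⟩,
  Ent.split [⟨[], (nat_lit 16), []⟩, ⟨[], (nat_lit 17), []⟩],
  Ent.merge [(nat_lit 5), (nat_lit 13)] (nat_lit 1) [(nat_lit 1)] ⟨[], (nat_lit 18), []⟩,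
  Ent.split [⟨[], (nat_lit 19), []⟩, ⟨[], (nat_lit 20), []⟩],
  Ent.merge [(nat_lit 7), (nat_lit 13)] (nat_lit 1) [(nat_lit 1), (nat_lit 5), (nat_lit 7)] ⟨[], (nat_lit 21), []⟩,
  Ent.merge [(nat_lit 7)] (nat_lit 1) [(nat_lit 1), (nat_lit 3)] ⟨[], (nat_lit 22), []⟩,
  Ent.dead (nat_lit 1) [(nat_lit 1), (nat_lit 3), (nat_lit 5), (nat_lit 7)],
  Ent.merge [(nat_lit 15)] (nat_lit 1) [(nat_lit 1), (nat_lit 3), (nat_lit 5)] ⟨[], (nat_lit 23), []⟩,
  Ent.dead (nat_lit 1) [(nat_lit 1)],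
  Ent.merge [(nat_lit 15)] (nat_lit 1) [(nat_lit 1), (nat_lit 3), (nat_lit 5)] ⟨[], (nat_lit 24), []⟩,
  Ent.merge [(nat_lit 15), (nat_lit 17)] (nat_lit 1) [(nat_lit 1), (nat_lit 5), (nat_lit 7)] ⟨[], (nat_lit 25), []⟩,
  Ent.dead (nat_lit 1) [(nat_lit 1), (nat_lit 5), (nat_lit 7)],
  Ent.dead (nat_lit 1) [(nat_lit 1), (nat_lit 5), (nat_lit 7)],
  Ent.merge [(nat_lit 15), (nat_lit 17)] (nat_lit 1) [(nat_lit 1), (nat_lit 5), (nat_lit 7)] ⟨[], (nat_lit 26), []⟩,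
  Ent.dead (nat_lit 1) [(nat_lit 1), (nat_lit 3), (nat_lit 7)],
  Ent.merge [(nat_lit 17)] (nat_lit 1) [(nat_lit 1), (nat_lit 3), (nat_lit 7)] ⟨[], (nat_lit 27), []⟩,
  Ent.dead (nat_lit 1) [(nat_lit 1), (nat_lit 3), (nat_lit 7)],
  Ent.merge [(nat_lit 17)] (nat_lit 1) [(nat_lit 1), (nat_lit 3), (nat_lit 7)] ⟨[], (nat_lit 28), []⟩,
  Ent.dead (nat_lit 1) [(nat_lit 3), (nat_lit 5), (nat_lit 7)],
  Ent.dead (nat_lit 1) [],
  Ent.merge [(nat_lit 17)] (nat_lit 1) [] ⟨[], (nat_lit 29), []⟩,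
  Ent.merge [(nat_lit 17)] (nat_lit 1) [] ⟨[], (nat_lit 30), []⟩,
  Ent.dead (nat_lit 1) [(nat_lit 3), (nat_lit 5), (nat_lit 7)],
  Ent.dead (nat_lit 1) [(nat_lit 5)],
  Ent.merge [(nat_lit 15)] (nat_lit 1) [(nat_lit 5)] ⟨[], (nat_lit 31), []⟩,
  Ent.merge [(nat_lit 15)] (nat_lit 1) [(nat_lit 5)] ⟨[], (nat_lit 32), []⟩,
  Ent.dead (nat_lit 1) [(nat_lit 7)],
  Ent.dead (nat_lit 1) [(nat_lit 5)],
  Ent.merge [(nat_lit 17)] (nat_lit 1) [(nat_lit 3), (nat_lit 5), (nat_lit 7)] ⟨[], (nat_lit 33), []⟩,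
  Ent.merge [(nat_lit 17)] (nat_lit 1) [(nat_lit 3), (nat_lit 5), (nat_lit 7)] ⟨[], (nat_lit 34), []⟩]
noncomputable def a_X12 : List (List Nat) := [[],
  [(nat_lit 23)],
  [(nat_lit 21)],
  [(nat_lit 21), (nat_lit 23)],
  [(nat_lit 19)],
  [(nat_lit 19), (nat_lit 23)],
  [(nat_lit 19), (nat_lit 21)],
  [(nat_lit 19), (nat_lit 21), (nat_lit 23)],
  [(nat_lit 17)],
  [(nat_lit 15)],
  [(nat_lit 15), (nat_lit 17)],
  [(nat_lit 13)],
  [(nat_lit 13), (nat_lit 23)],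
  [(nat_lit 11)],
  [(nat_lit 11), (nat_lit 17)],
  [(nat_lit 11), (nat_lit 15)],
  [(nat_lit 11), (nat_lit 15), (nat_lit 23)],
  [(nat_lit 11), (nat_lit 15), (nat_lit 19)],
  [(nat_lit 11), (nat_lit 15), (nat_lit 19), (nat_lit 23)],
  [(nat_lit 11), (nat_lit 15), (nat_lit 17)],
  [(nat_lit 9), (nat_lit 13)],
  [(nat_lit 9), (nat_lit 13), (nat_lit 17)],
  [(nat_lit 9), (nat_lit 13), (nat_lit 15)],
  [(nat_lit 9), (nat_lit 13), (nat_lit 15), (nat_lit 17)],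
  [(nat_lit 9), (nat_lit 13), (nat_lit 15), (nat_lit 17), (nat_lit 23)],
  [(nat_lit 9), (nat_lit 13), (nat_lit 15), (nat_lit 17), (nat_lit 21)],
  [(nat_lit 9), (nat_lit 13), (nat_lit 15), (nat_lit 17), (nat_lit 21), (nat_lit 23)],
  [(nat_lit 9), (nat_lit 11), (nat_lit 13)],
  [(nat_lit 9), (nat_lit 11), (nat_lit 13), (nat_lit 17)],
  [(nat_lit 9), (nat_lit 11), (nat_lit 13), (nat_lit 17), (nat_lit 23)],
  [(nat_lit 9), (nat_lit 11), (nat_lit 13), (nat_lit 17), (nat_lit 21)],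
  [(nat_lit 9), (nat_lit 11), (nat_lit 13), (nat_lit 17), (nat_lit 21), (nat_lit 23)],
  [(nat_lit 9), (nat_lit 11), (nat_lit 13), (nat_lit 15)],
  [(nat_lit 9), (nat_lit 11), (nat_lit 13), (nat_lit 15), (nat_lit 17)],
  [(nat_lit 7), (nat_lit 15)],
  [(nat_lit 7), (nat_lit 15), (nat_lit 23)],
  [(nat_lit 7), (nat_lit 13), (nat_lit 15), (nat_lit 17)],
  [(nat_lit 7), (nat_lit 13), (nat_lit 15), (nat_lit 17), (nat_lit 23)],
  [(nat_lit 5), (nat_lit 17)],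
  [(nat_lit 5), (nat_lit 17), (nat_lit 23)],
  [(nat_lit 5), (nat_lit 13), (nat_lit 15), (nat_lit 17)],
  [(nat_lit 5), (nat_lit 13), (nat_lit 15), (nat_lit 17), (nat_lit 23)],
  [(nat_lit 5), (nat_lit 7), (nat_lit 15), (nat_lit 17)],
  [(nat_lit 5), (nat_lit 7), (nat_lit 15), (nat_lit 17), (nat_lit 23)],
  [(nat_lit 5), (nat_lit 7), (nat_lit 13), (nat_lit 15), (nat_lit 17)],
  [(nat_lit 5), (nat_lit 7), (nat_lit 13), (nat_lit 15), (nat_lit 17), (nat_lit 23)],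
  [(nat_lit 3), (nat_lit 17)],
  [(nat_lit 3), (nat_lit 17), (nat_lit 23)],
  [(nat_lit 3), (nat_lit 17), (nat_lit 19)],
  [(nat_lit 3), (nat_lit 17), (nat_lit 19), (nat_lit 23)],
  [(nat_lit 1), (nat_lit 5), (nat_lit 13), (nat_lit 15)],
  [(nat_lit 1), (nat_lit 5), (nat_lit 13), (nat_lit 15), (nat_lit 23)],
  [(nat_lit 1), (nat_lit 5), (nat_lit 13), (nat_lit 15), (nat_lit 19)],
  [(nat_lit 1), (nat_lit 5), (nat_lit 13), (nat_lit 15), (nat_lit 19), (nat_lit 23)],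
  [(nat_lit 1), (nat_lit 3), (nat_lit 5), (nat_lit 13), (nat_lit 17)],
  [(nat_lit 1), (nat_lit 3), (nat_lit 5), (nat_lit 13), (nat_lit 17), (nat_lit 23)],
  [(nat_lit 1), (nat_lit 3), (nat_lit 5), (nat_lit 13), (nat_lit 17), (nat_lit 19)],
  [(nat_lit 1), (nat_lit 3), (nat_lit 5), (nat_lit 13), (nat_lit 17), (nat_lit 19), (nat_lit 23)]]
noncomputable def a_E11 : List Ent := [Ent.split [⟨[], (nat_lit 0), []⟩, ⟨[], (nat_lit 1), []⟩],
  Ent.split [⟨[], (nat_lit 2), []⟩, ⟨[], (nat_lit 3), []⟩],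
  Ent.split [⟨[], (nat_lit 4), []⟩, ⟨[], (nat_lit 5), []⟩],
  Ent.split [⟨[], (nat_lit 6), []⟩, ⟨[], (nat_lit 7), []⟩],
  Ent.merge [(nat_lit 3), (nat_lit 5), (nat_lit 7), (nat_lit 19), (nat_lit 27)] (nat_lit 1) [] ⟨[], (nat_lit 8), []⟩,
  Ent.merge [(nat_lit 3), (nat_lit 7), (nat_lit 21), (nat_lit 23), (nat_lit 25), (nat_lit 27), (nat_lit 29)] (nat_lit 1) [(nat_lit 3), (nat_lit 5)] ⟨[], (nat_lit 9), []⟩,
  Ent.merge [(nat_lit 1)] (nat_lit 1) [(nat_lit 1), (nat_lit 3), (nat_lit 5)] ⟨[], (nat_lit 10), []⟩,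
  Ent.split [⟨[], (nat_lit 11), []⟩, ⟨[], (nat_lit 12), []⟩],
  Ent.merge [(nat_lit 3), (nat_lit 13)] (nat_lit 1) [(nat_lit 1)] ⟨[], (nat_lit 13), []⟩,
  Ent.merge [(nat_lit 1), (nat_lit 13)] (nat_lit 1) [(nat_lit 5)] ⟨[], (nat_lit 14), []⟩,
  Ent.split [⟨[], (nat_lit 15), []⟩, ⟨[], (nat_lit 16), []⟩],
  Ent.split [⟨[], (nat_lit 17), []⟩, ⟨[], (nat_lit 18), []⟩],
  Ent.merge [(nat_lit 3), (nat_lit 13)] (nat_lit 1) [(nat_lit 1)] ⟨[], (nat_lit 19), []⟩,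
  Ent.merge [(nat_lit 1), (nat_lit 13)] (nat_lit 1) [] ⟨[], (nat_lit 20), []⟩,
  Ent.merge [(nat_lit 3), (nat_lit 7), (nat_lit 21), (nat_lit 23), (nat_lit 25), (nat_lit 27), (nat_lit 29)] (nat_lit 1) [(nat_lit 3)] ⟨[], (nat_lit 21), []⟩,
  Ent.merge [(nat_lit 3), (nat_lit 7), (nat_lit 13), (nat_lit 19), (nat_lit 29)] (nat_lit 1) [(nat_lit 1), (nat_lit 3), (nat_lit 5)] ⟨[], (nat_lit 22), []⟩,
  Ent.split [⟨[], (nat_lit 23), []⟩, ⟨[], (nat_lit 24), []⟩],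
  Ent.split [⟨[], (nat_lit 25), []⟩, ⟨[], (nat_lit 26), []⟩],
  Ent.merge [(nat_lit 3), (nat_lit 5), (nat_lit 13), (nat_lit 21), (nat_lit 23), (nat_lit 27), (nat_lit 29)] (nat_lit 1) [(nat_lit 1), (nat_lit 3), (nat_lit 5)] ⟨[], (nat_lit 27), []⟩,
  Ent.split [⟨[], (nat_lit 28), []⟩, ⟨[], (nat_lit 29), []⟩],
  Ent.split [⟨[], (nat_lit 30), []⟩, ⟨[], (nat_lit 31), []⟩],
  Ent.merge [(nat_lit 1), (nat_lit 13)] (nat_lit 1) [(nat_lit 1)] ⟨[], (nat_lit 32), []⟩,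
  Ent.merge [(nat_lit 3), (nat_lit 7), (nat_lit 21), (nat_lit 23), (nat_lit 25), (nat_lit 27), (nat_lit 29)] (nat_lit 1) [(nat_lit 3), (nat_lit 5)] ⟨[], (nat_lit 33), []⟩,
  Ent.split [⟨[], (nat_lit 34), []⟩, ⟨[], (nat_lit 35), []⟩],
  Ent.split [⟨[], (nat_lit 36), []⟩, ⟨[], (nat_lit 37), []⟩],
  Ent.split [⟨[], (nat_lit 38), []⟩, ⟨[], (nat_lit 39), []⟩],
  Ent.split [⟨[], (nat_lit 40), []⟩, ⟨[], (nat_lit 41), []⟩],
  Ent.split [⟨[], (nat_lit 42), []⟩, ⟨[], (nat_lit 43), []⟩],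
  Ent.split [⟨[], (nat_lit 44), []⟩, ⟨[], (nat_lit 45), []⟩],
  Ent.split [⟨[], (nat_lit 46), []⟩, ⟨[], (nat_lit 47), []⟩],
  Ent.split [⟨[], (nat_lit 48), []⟩, ⟨[], (nat_lit 49), []⟩],
  Ent.split [⟨[], (nat_lit 50), []⟩, ⟨[], (nat_lit 51), []⟩],
  Ent.split [⟨[], (nat_lit 52), []⟩, ⟨[], (nat_lit 53), []⟩],
  Ent.split [⟨[], (nat_lit 54), []⟩, ⟨[], (nat_lit 55), []⟩],
  Ent.split [⟨[], (nat_lit 56), []⟩, ⟨[], (nat_lit 57), []⟩]]
noncomputable def a_X13 : List (List Nat) := [[],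
  [(nat_lit 25)],
  [(nat_lit 23)],
  [(nat_lit 21)],
  [(nat_lit 21), (nat_lit 23)],
  [(nat_lit 19)],
  [(nat_lit 19), (nat_lit 23)],
  [(nat_lit 19), (nat_lit 21)],
  [(nat_lit 19), (nat_lit 21), (nat_lit 23)],
  [(nat_lit 17)],
  [(nat_lit 15)],
  [(nat_lit 15), (nat_lit 17)],
  [(nat_lit 13)],
  [(nat_lit 13), (nat_lit 25)],
  [(nat_lit 13), (nat_lit 23)],
  [(nat_lit 11), (nat_lit 15)],
  [(nat_lit 11), (nat_lit 15), (nat_lit 23)],
  [(nat_lit 11), (nat_lit 15), (nat_lit 19)],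
  [(nat_lit 11), (nat_lit 15), (nat_lit 19), (nat_lit 23)],
  [(nat_lit 11), (nat_lit 15), (nat_lit 17)],
  [(nat_lit 9), (nat_lit 13), (nat_lit 17)],
  [(nat_lit 9), (nat_lit 13), (nat_lit 15), (nat_lit 17)],
  [(nat_lit 9), (nat_lit 13), (nat_lit 15), (nat_lit 17), (nat_lit 23)],
  [(nat_lit 9), (nat_lit 13), (nat_lit 15), (nat_lit 17), (nat_lit 21)],
  [(nat_lit 9), (nat_lit 13), (nat_lit 15), (nat_lit 17), (nat_lit 21), (nat_lit 23)],
  [(nat_lit 9), (nat_lit 11), (nat_lit 13), (nat_lit 17)],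
  [(nat_lit 9), (nat_lit 11), (nat_lit 13), (nat_lit 17), (nat_lit 23)],
  [(nat_lit 9), (nat_lit 11), (nat_lit 13), (nat_lit 17), (nat_lit 21)],
  [(nat_lit 9), (nat_lit 11), (nat_lit 13), (nat_lit 17), (nat_lit 21), (nat_lit 23)],
  [(nat_lit 9), (nat_lit 11), (nat_lit 13), (nat_lit 15)],
  [(nat_lit 7), (nat_lit 15)],
  [(nat_lit 7), (nat_lit 13), (nat_lit 15), (nat_lit 17), (nat_lit 23)],
  [(nat_lit 5), (nat_lit 17)],
  [(nat_lit 5), (nat_lit 13), (nat_lit 15), (nat_lit 17)],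
  [(nat_lit 5), (nat_lit 7), (nat_lit 15), (nat_lit 17)],
  [(nat_lit 5), (nat_lit 7), (nat_lit 15), (nat_lit 17), (nat_lit 25)],
  [(nat_lit 5), (nat_lit 7), (nat_lit 15), (nat_lit 17), (nat_lit 23)],
  [(nat_lit 5), (nat_lit 7), (nat_lit 13), (nat_lit 15), (nat_lit 17)],
  [(nat_lit 5), (nat_lit 7), (nat_lit 13), (nat_lit 15), (nat_lit 17), (nat_lit 25)],
  [(nat_lit 5), (nat_lit 7), (nat_lit 13), (nat_lit 15), (nat_lit 17), (nat_lit 23)],
  [(nat_lit 3), (nat_lit 17), (nat_lit 23)],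
  [(nat_lit 3), (nat_lit 17), (nat_lit 19)],
  [(nat_lit 1), (nat_lit 5), (nat_lit 13), (nat_lit 15), (nat_lit 19)],
  [(nat_lit 1), (nat_lit 5), (nat_lit 13), (nat_lit 15), (nat_lit 19), (nat_lit 23)],
  [(nat_lit 1), (nat_lit 3), (nat_lit 5), (nat_lit 13), (nat_lit 17), (nat_lit 23)],
  [(nat_lit 1), (nat_lit 3), (nat_lit 5), (nat_lit 13), (nat_lit 17), (nat_lit 19), (nat_lit 23)]]
noncomputable def a_E12 : List Ent := [Ent.split [⟨[], (nat_lit 0), []⟩, ⟨[], (nat_lit 1), []⟩],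
  Ent.merge [(nat_lit 7)] (nat_lit 1) [(nat_lit 1)] ⟨[], (nat_lit 2), []⟩,
  Ent.merge [(nat_lit 7)] (nat_lit 1) [(nat_lit 1)] ⟨[], (nat_lit 3), []⟩,
  Ent.merge [(nat_lit 3)] (nat_lit 1) [(nat_lit 3)] ⟨[], (nat_lit 4), []⟩,
  Ent.merge [(nat_lit 3)] (nat_lit 1) [(nat_lit 1), (nat_lit 3)] ⟨[], (nat_lit 5), []⟩,
  Ent.merge [(nat_lit 7)] (nat_lit 1) [(nat_lit 1)] ⟨[], (nat_lit 6), []⟩,
  Ent.merge [(nat_lit 7)] (nat_lit 1) [(nat_lit 1)] ⟨[], (nat_lit 7), []⟩,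
  Ent.merge [(nat_lit 1)] (nat_lit 1) [(nat_lit 1), (nat_lit 3)] ⟨[], (nat_lit 8), []⟩,
  Ent.merge [(nat_lit 9)] (nat_lit 1) [(nat_lit 3)] ⟨[], (nat_lit 9), []⟩,
  Ent.merge [(nat_lit 11)] (nat_lit 1) [(nat_lit 1), (nat_lit 3)] ⟨[], (nat_lit 10), []⟩,
  Ent.merge [(nat_lit 11)] (nat_lit 1) [(nat_lit 3)] ⟨[], (nat_lit 11), []⟩,
  Ent.split [⟨[], (nat_lit 12), []⟩, ⟨[], (nat_lit 13), []⟩],
  Ent.merge [(nat_lit 7), (nat_lit 9), (nat_lit 11), (nat_lit 19), (nat_lit 27)] (nat_lit 1) [(nat_lit 1), (nat_lit 3)] ⟨[], (nat_lit 14), []⟩,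
  Ent.dead (nat_lit 1) [(nat_lit 1)],
  Ent.dead (nat_lit 1) [],
  Ent.merge [(nat_lit 15)] (nat_lit 1) [(nat_lit 1), (nat_lit 3)] ⟨[], (nat_lit 15), []⟩,
  Ent.merge [(nat_lit 15)] (nat_lit 1) [(nat_lit 1), (nat_lit 3)] ⟨[], (nat_lit 16), []⟩,
  Ent.merge [(nat_lit 15)] (nat_lit 1) [(nat_lit 1), (nat_lit 3)] ⟨[], (nat_lit 17), []⟩,
  Ent.merge [(nat_lit 15)] (nat_lit 1) [(nat_lit 1), (nat_lit 3)] ⟨[], (nat_lit 18), []⟩,
  Ent.merge [(nat_lit 15)] (nat_lit 1) [(nat_lit 1), (nat_lit 3)] ⟨[], (nat_lit 19), []⟩,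
  Ent.dead (nat_lit 1) [(nat_lit 1), (nat_lit 3)],
  Ent.merge [(nat_lit 17)] (nat_lit 1) [(nat_lit 3)] ⟨[], (nat_lit 20), []⟩,
  Ent.dead (nat_lit 1) [(nat_lit 3)],
  Ent.merge [(nat_lit 17)] (nat_lit 1) [(nat_lit 3)] ⟨[], (nat_lit 21), []⟩,
  Ent.merge [(nat_lit 17)] (nat_lit 1) [(nat_lit 3)] ⟨[], (nat_lit 22), []⟩,
  Ent.merge [(nat_lit 17)] (nat_lit 1) [(nat_lit 3)] ⟨[], (nat_lit 23), []⟩,
  Ent.merge [(nat_lit 17)] (nat_lit 1) [(nat_lit 3)] ⟨[], (nat_lit 24), []⟩,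
  Ent.dead (nat_lit 1) [(nat_lit 1)],
  Ent.merge [(nat_lit 17)] (nat_lit 1) [(nat_lit 1), (nat_lit 3)] ⟨[], (nat_lit 25), []⟩,
  Ent.merge [(nat_lit 17)] (nat_lit 1) [(nat_lit 1), (nat_lit 3)] ⟨[], (nat_lit 26), []⟩,
  Ent.merge [(nat_lit 17)] (nat_lit 1) [(nat_lit 1), (nat_lit 3)] ⟨[], (nat_lit 27), []⟩,
  Ent.merge [(nat_lit 17)] (nat_lit 1) [(nat_lit 1), (nat_lit 3)] ⟨[], (nat_lit 28), []⟩,
  Ent.merge [(nat_lit 17)] (nat_lit 1) [(nat_lit 1), (nat_lit 3)] ⟨[], (nat_lit 29), []⟩,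
  Ent.dead (nat_lit 1) [],
  Ent.merge [(nat_lit 23)] (nat_lit 1) [(nat_lit 1)] ⟨[], (nat_lit 30), []⟩,
  Ent.dead (nat_lit 1) [(nat_lit 1), (nat_lit 3)],
  Ent.dead (nat_lit 1) [(nat_lit 1)],
  Ent.merge [(nat_lit 23)] (nat_lit 1) [(nat_lit 1)] ⟨[], (nat_lit 31), []⟩,
  Ent.merge [(nat_lit 23)] (nat_lit 1) [(nat_lit 3)] ⟨[], (nat_lit 32), []⟩,
  Ent.dead (nat_lit 1) [(nat_lit 3)],
  Ent.merge [(nat_lit 23)] (nat_lit 1) [(nat_lit 3)] ⟨[], (nat_lit 33), []⟩,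
  Ent.dead (nat_lit 1) [(nat_lit 3)],
  Ent.split [⟨[], (nat_lit 34), []⟩, ⟨[], (nat_lit 35), []⟩],
  Ent.merge [(nat_lit 7), (nat_lit 15)] (nat_lit 1) [(nat_lit 1)] ⟨[], (nat_lit 36), []⟩,
  Ent.split [⟨[], (nat_lit 37), []⟩, ⟨[], (nat_lit 38), []⟩],
  Ent.merge [(nat_lit 7), (nat_lit 17)] (nat_lit 1) [] ⟨[], (nat_lit 39), []⟩,
  Ent.dead (nat_lit 1) [(nat_lit 1), (nat_lit 3)],
  Ent.merge [(nat_lit 23)] (nat_lit 1) [(nat_lit 3)] ⟨[], (nat_lit 40), []⟩,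
  Ent.merge [(nat_lit 23)] (nat_lit 1) [(nat_lit 3)] ⟨[], (nat_lit 41), []⟩,
  Ent.dead (nat_lit 1) [(nat_lit 3)],
  Ent.dead (nat_lit 1) [(nat_lit 3)],
  Ent.dead (nat_lit 1) [(nat_lit 1)],
  Ent.merge [(nat_lit 19)] (nat_lit 1) [(nat_lit 3)] ⟨[], (nat_lit 42), []⟩,
  Ent.merge [(nat_lit 19)] (nat_lit 1) [(nat_lit 3)] ⟨[], (nat_lit 43), []⟩,
  Ent.dead (nat_lit 1) [(nat_lit 1)],
  Ent.merge [(nat_lit 23)] (nat_lit 1) [(nat_lit 1)] ⟨[], (nat_lit 44), []⟩,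
  Ent.dead (nat_lit 1) [(nat_lit 3)],
  Ent.merge [(nat_lit 23)] (nat_lit 1) [(nat_lit 1)] ⟨[], (nat_lit 45), []⟩]
noncomputable def a_X14 : List (List Nat) := [[],
  [(nat_lit 27)],
  [(nat_lit 25)],
  [(nat_lit 25), (nat_lit 27)],
  [(nat_lit 23)],
  [(nat_lit 21)],
  [(nat_lit 21), (nat_lit 23)],
  [(nat_lit 19)],
  [(nat_lit 19), (nat_lit 23)],
  [(nat_lit 19), (nat_lit 21)],
  [(nat_lit 19), (nat_lit 21), (nat_lit 23)],
  [(nat_lit 17)],
  [(nat_lit 15)],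
  [(nat_lit 15), (nat_lit 17)],
  [(nat_lit 13)],
  [(nat_lit 13), (nat_lit 27)],
  [(nat_lit 13), (nat_lit 25)],
  [(nat_lit 13), (nat_lit 25), (nat_lit 27)],
  [(nat_lit 13), (nat_lit 23)],
  [(nat_lit 11), (nat_lit 15)],
  [(nat_lit 11), (nat_lit 15), (nat_lit 23)],
  [(nat_lit 11), (nat_lit 15), (nat_lit 19)],
  [(nat_lit 11), (nat_lit 15), (nat_lit 19), (nat_lit 23)],
  [(nat_lit 9), (nat_lit 13), (nat_lit 15), (nat_lit 17)],
  [(nat_lit 9), (nat_lit 13), (nat_lit 15), (nat_lit 17), (nat_lit 23)],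
  [(nat_lit 9), (nat_lit 13), (nat_lit 15), (nat_lit 17), (nat_lit 21)],
  [(nat_lit 9), (nat_lit 13), (nat_lit 15), (nat_lit 17), (nat_lit 21), (nat_lit 23)],
  [(nat_lit 9), (nat_lit 11), (nat_lit 13), (nat_lit 17)],
  [(nat_lit 9), (nat_lit 11), (nat_lit 13), (nat_lit 17), (nat_lit 23)],
  [(nat_lit 9), (nat_lit 11), (nat_lit 13), (nat_lit 17), (nat_lit 21)],
  [(nat_lit 9), (nat_lit 11), (nat_lit 13), (nat_lit 17), (nat_lit 21), (nat_lit 23)],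
  [(nat_lit 7), (nat_lit 15)],
  [(nat_lit 7), (nat_lit 15), (nat_lit 27)],
  [(nat_lit 7), (nat_lit 13), (nat_lit 15), (nat_lit 17), (nat_lit 23)],
  [(nat_lit 7), (nat_lit 13), (nat_lit 15), (nat_lit 17), (nat_lit 23), (nat_lit 27)],
  [(nat_lit 5), (nat_lit 17)],
  [(nat_lit 5), (nat_lit 17), (nat_lit 27)],
  [(nat_lit 5), (nat_lit 13), (nat_lit 15), (nat_lit 17)],
  [(nat_lit 5), (nat_lit 13), (nat_lit 15), (nat_lit 17), (nat_lit 27)],
  [(nat_lit 5), (nat_lit 7), (nat_lit 15), (nat_lit 17)],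
  [(nat_lit 5), (nat_lit 7), (nat_lit 15), (nat_lit 17), (nat_lit 25)],
  [(nat_lit 5), (nat_lit 7), (nat_lit 13), (nat_lit 15), (nat_lit 17)],
  [(nat_lit 5), (nat_lit 7), (nat_lit 13), (nat_lit 15), (nat_lit 17), (nat_lit 25)],
  [(nat_lit 3), (nat_lit 17), (nat_lit 19)],
  [(nat_lit 1), (nat_lit 5), (nat_lit 13), (nat_lit 15), (nat_lit 19)],
  [(nat_lit 1), (nat_lit 3), (nat_lit 5), (nat_lit 13), (nat_lit 17), (nat_lit 23)]]
noncomputable def a_E13 : List Ent := [Ent.split [⟨[], (nat_lit 0), []⟩, ⟨[], (nat_lit 1), []⟩],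
  Ent.split [⟨[], (nat_lit 2), []⟩, ⟨[], (nat_lit 3), []⟩],
  Ent.merge [(nat_lit 5), (nat_lit 7), (nat_lit 21), (nat_lit 23), (nat_lit 25), (nat_lit 27), (nat_lit 29)] (nat_lit 1) [] ⟨[], (nat_lit 4), []⟩,
  Ent.merge [(nat_lit 5), (nat_lit 7), (nat_lit 21), (nat_lit 23), (nat_lit 25), (nat_lit 27), (nat_lit 29)] (nat_lit 1) [(nat_lit 1)] ⟨[], (nat_lit 5), []⟩,
  Ent.merge [(nat_lit 1)] (nat_lit 1) [] ⟨[], (nat_lit 6), []⟩,
  Ent.merge [(nat_lit 1), (nat_lit 3), (nat_lit 21), (nat_lit 25), (nat_lit 27), (nat_lit 29)] (nat_lit 1) [(nat_lit 1)] ⟨[], (nat_lit 7), []⟩,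
  Ent.merge [(nat_lit 5), (nat_lit 7), (nat_lit 21), (nat_lit 23), (nat_lit 25), (nat_lit 27), (nat_lit 29)] (nat_lit 1) [] ⟨[], (nat_lit 8), []⟩,
  Ent.merge [(nat_lit 5), (nat_lit 7), (nat_lit 21), (nat_lit 23), (nat_lit 25), (nat_lit 27), (nat_lit 29)] (nat_lit 1) [(nat_lit 1)] ⟨[], (nat_lit 9), []⟩,
  Ent.merge [(nat_lit 3)] (nat_lit 1) [] ⟨[], (nat_lit 10), []⟩,
  Ent.merge [(nat_lit 11)] (nat_lit 1) [] ⟨[], (nat_lit 11), []⟩,
  Ent.merge [(nat_lit 9)] (nat_lit 1) [] ⟨[], (nat_lit 12), []⟩,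
  Ent.merge [(nat_lit 9), (nat_lit 11), (nat_lit 25), (nat_lit 27)] (nat_lit 1) [] ⟨[], (nat_lit 13), []⟩,
  Ent.split [⟨[], (nat_lit 14), []⟩, ⟨[], (nat_lit 15), []⟩],
  Ent.split [⟨[], (nat_lit 16), []⟩, ⟨[], (nat_lit 17), []⟩],
  Ent.merge [(nat_lit 5), (nat_lit 7), (nat_lit 21), (nat_lit 23), (nat_lit 25), (nat_lit 27), (nat_lit 29)] (nat_lit 1) [] ⟨[], (nat_lit 18), []⟩,
  Ent.merge [(nat_lit 17)] (nat_lit 1) [] ⟨[], (nat_lit 19), []⟩,
  Ent.merge [(nat_lit 17)] (nat_lit 1) [] ⟨[], (nat_lit 20), []⟩,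
  Ent.merge [(nat_lit 17)] (nat_lit 1) [] ⟨[], (nat_lit 21), []⟩,
  Ent.merge [(nat_lit 17)] (nat_lit 1) [] ⟨[], (nat_lit 22), []⟩,
  Ent.dead (nat_lit 1) [(nat_lit 1)],
  Ent.dead (nat_lit 1) [],
  Ent.merge [(nat_lit 15)] (nat_lit 1) [] ⟨[], (nat_lit 23), []⟩,
  Ent.merge [(nat_lit 15)] (nat_lit 1) [] ⟨[], (nat_lit 24), []⟩,
  Ent.merge [(nat_lit 15)] (nat_lit 1) [] ⟨[], (nat_lit 25), []⟩,
  Ent.merge [(nat_lit 15)] (nat_lit 1) [] ⟨[], (nat_lit 26), []⟩,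
  Ent.merge [(nat_lit 15), (nat_lit 17)] (nat_lit 1) [] ⟨[], (nat_lit 27), []⟩,
  Ent.merge [(nat_lit 15), (nat_lit 17)] (nat_lit 1) [] ⟨[], (nat_lit 28), []⟩,
  Ent.merge [(nat_lit 15), (nat_lit 17)] (nat_lit 1) [] ⟨[], (nat_lit 29), []⟩,
  Ent.merge [(nat_lit 15), (nat_lit 17)] (nat_lit 1) [] ⟨[], (nat_lit 30), []⟩,
  Ent.dead (nat_lit 1) [(nat_lit 1)],
  Ent.split [⟨[], (nat_lit 31), []⟩, ⟨[], (nat_lit 32), []⟩],
  Ent.split [⟨[], (nat_lit 33), []⟩, ⟨[], (nat_lit 34), []⟩],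
  Ent.split [⟨[], (nat_lit 35), []⟩, ⟨[], (nat_lit 36), []⟩],
  Ent.split [⟨[], (nat_lit 37), []⟩, ⟨[], (nat_lit 38), []⟩],
  Ent.merge [(nat_lit 23)] (nat_lit 1) [] ⟨[], (nat_lit 39), []⟩,
  Ent.merge [(nat_lit 23)] (nat_lit 1) [] ⟨[], (nat_lit 40), []⟩,
  Ent.dead (nat_lit 1) [],
  Ent.merge [(nat_lit 23)] (nat_lit 1) [] ⟨[], (nat_lit 41), []⟩,
  Ent.merge [(nat_lit 23)] (nat_lit 1) [] ⟨[], (nat_lit 42), []⟩,
  Ent.dead (nat_lit 1) [],
  Ent.dead (nat_lit 1) [],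
  Ent.merge [(nat_lit 19), (nat_lit 23)] (nat_lit 1) [] ⟨[], (nat_lit 43), []⟩,
  Ent.merge [(nat_lit 23)] (nat_lit 1) [(nat_lit 1)] ⟨[], (nat_lit 44), []⟩,
  Ent.dead (nat_lit 1) [(nat_lit 1)],
  Ent.merge [(nat_lit 19)] (nat_lit 1) [(nat_lit 1)] ⟨[], (nat_lit 45), []⟩,
  Ent.dead (nat_lit 1) [(nat_lit 1)]]
noncomputable def a_X15 : List (List Nat) := [[],
  [(nat_lit 29)],
  [(nat_lit 27)],
  [(nat_lit 25)],
  [(nat_lit 25), (nat_lit 27)],
  [(nat_lit 23)],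
  [(nat_lit 21)],
  [(nat_lit 21), (nat_lit 29)],
  [(nat_lit 21), (nat_lit 23)],
  [(nat_lit 19)],
  [(nat_lit 19), (nat_lit 23)],
  [(nat_lit 19), (nat_lit 21)],
  [(nat_lit 19), (nat_lit 21), (nat_lit 23)],
  [(nat_lit 17)],
  [(nat_lit 17), (nat_lit 29)],
  [(nat_lit 15)],
  [(nat_lit 15), (nat_lit 29)],
  [(nat_lit 15), (nat_lit 17)],
  [(nat_lit 15), (nat_lit 17), (nat_lit 29)],
  [(nat_lit 13)],
  [(nat_lit 13), (nat_lit 29)],
  [(nat_lit 13), (nat_lit 27)],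
  [(nat_lit 13), (nat_lit 25)],
  [(nat_lit 13), (nat_lit 25), (nat_lit 27)],
  [(nat_lit 13), (nat_lit 23)],
  [(nat_lit 13), (nat_lit 23), (nat_lit 29)],
  [(nat_lit 11), (nat_lit 15), (nat_lit 19)],
  [(nat_lit 11), (nat_lit 15), (nat_lit 19), (nat_lit 23)],
  [(nat_lit 9), (nat_lit 13), (nat_lit 15), (nat_lit 17)],
  [(nat_lit 9), (nat_lit 13), (nat_lit 15), (nat_lit 17), (nat_lit 21)],
  [(nat_lit 9), (nat_lit 11), (nat_lit 13), (nat_lit 17), (nat_lit 23)],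
  [(nat_lit 9), (nat_lit 11), (nat_lit 13), (nat_lit 17), (nat_lit 21), (nat_lit 23)],
  [(nat_lit 7), (nat_lit 15), (nat_lit 27)],
  [(nat_lit 7), (nat_lit 13), (nat_lit 15), (nat_lit 17), (nat_lit 23)],
  [(nat_lit 5), (nat_lit 17)],
  [(nat_lit 5), (nat_lit 13), (nat_lit 15), (nat_lit 17)],
  [(nat_lit 5), (nat_lit 7), (nat_lit 15), (nat_lit 17)],
  [(nat_lit 5), (nat_lit 7), (nat_lit 13), (nat_lit 15), (nat_lit 17)],
  [(nat_lit 3), (nat_lit 17), (nat_lit 19)],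
  [(nat_lit 3), (nat_lit 17), (nat_lit 19), (nat_lit 29)],
  [(nat_lit 1), (nat_lit 5), (nat_lit 13), (nat_lit 15), (nat_lit 19)],
  [(nat_lit 1), (nat_lit 5), (nat_lit 13), (nat_lit 15), (nat_lit 19), (nat_lit 29)],
  [(nat_lit 1), (nat_lit 3), (nat_lit 5), (nat_lit 13), (nat_lit 17), (nat_lit 23)],
  [(nat_lit 1), (nat_lit 3), (nat_lit 5), (nat_lit 13), (nat_lit 17), (nat_lit 23), (nat_lit 29)]]
noncomputable def a_E14 : List Ent := [Ent.split [⟨[], (nat_lit 0), []⟩, ⟨[], (nat_lit 1), []⟩],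
  Ent.merge [(nat_lit 7)] (nat_lit 1) [] ⟨[], (nat_lit 2), []⟩,
  Ent.merge [(nat_lit 7)] (nat_lit 1) [] ⟨[], (nat_lit 3), []⟩,
  Ent.merge [(nat_lit 5)] (nat_lit 1) [] ⟨[], (nat_lit 4), []⟩,
  Ent.merge [(nat_lit 9)] (nat_lit 1) [] ⟨[], (nat_lit 5), []⟩,
  Ent.split [⟨[], (nat_lit 6), []⟩, ⟨[], (nat_lit 7), []⟩],
  Ent.merge [(nat_lit 9)] (nat_lit 1) [] ⟨[], (nat_lit 8), []⟩,
  Ent.merge [(nat_lit 11)] (nat_lit 1) [] ⟨[], (nat_lit 9), []⟩,
  Ent.merge [(nat_lit 11)] (nat_lit 1) [] ⟨[], (nat_lit 10), []⟩,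
  Ent.merge [(nat_lit 11)] (nat_lit 1) [] ⟨[], (nat_lit 11), []⟩,
  Ent.merge [(nat_lit 11)] (nat_lit 1) [] ⟨[], (nat_lit 12), []⟩,
  Ent.split [⟨[], (nat_lit 13), []⟩, ⟨[], (nat_lit 14), []⟩],
  Ent.split [⟨[], (nat_lit 15), []⟩, ⟨[], (nat_lit 16), []⟩],
  Ent.split [⟨[], (nat_lit 17), []⟩, ⟨[], (nat_lit 18), []⟩],
  Ent.split [⟨[], (nat_lit 19), []⟩, ⟨[], (nat_lit 20), []⟩],
  Ent.merge [(nat_lit 7), (nat_lit 9), (nat_lit 11), (nat_lit 19), (nat_lit 27)] (nat_lit 1) [] ⟨[], (nat_lit 21), []⟩,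
  Ent.merge [(nat_lit 7), (nat_lit 9), (nat_lit 11), (nat_lit 19), (nat_lit 27)] (nat_lit 1) [] ⟨[], (nat_lit 22), []⟩,
  Ent.merge [(nat_lit 5), (nat_lit 9), (nat_lit 11), (nat_lit 19), (nat_lit 27)] (nat_lit 1) [] ⟨[], (nat_lit 23), []⟩,
  Ent.split [⟨[], (nat_lit 24), []⟩, ⟨[], (nat_lit 25), []⟩],
  Ent.dead (nat_lit 1) [],
  Ent.dead (nat_lit 1) [],
  Ent.merge [(nat_lit 19)] (nat_lit 1) [] ⟨[], (nat_lit 26), []⟩,
  Ent.merge [(nat_lit 19)] (nat_lit 1) [] ⟨[], (nat_lit 27), []⟩,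
  Ent.merge [(nat_lit 23)] (nat_lit 1) [] ⟨[], (nat_lit 28), []⟩,
  Ent.dead (nat_lit 1) [],
  Ent.merge [(nat_lit 23)] (nat_lit 1) [] ⟨[], (nat_lit 29), []⟩,
  Ent.dead (nat_lit 1) [],
  Ent.dead (nat_lit 1) [],
  Ent.merge [(nat_lit 23)] (nat_lit 1) [] ⟨[], (nat_lit 30), []⟩,
  Ent.dead (nat_lit 1) [],
  Ent.merge [(nat_lit 23)] (nat_lit 1) [] ⟨[], (nat_lit 31), []⟩,
  Ent.dead (nat_lit 1) [],
  Ent.merge [(nat_lit 27)] (nat_lit 1) [] ⟨[], (nat_lit 32), []⟩,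
  Ent.merge [(nat_lit 27)] (nat_lit 1) [] ⟨[], (nat_lit 33), []⟩,
  Ent.dead (nat_lit 1) [],
  Ent.merge [(nat_lit 27)] (nat_lit 1) [] ⟨[], (nat_lit 34), []⟩,
  Ent.dead (nat_lit 1) [],
  Ent.merge [(nat_lit 27)] (nat_lit 1) [] ⟨[], (nat_lit 35), []⟩,
  Ent.dead (nat_lit 1) [],
  Ent.merge [(nat_lit 25)] (nat_lit 1) [] ⟨[], (nat_lit 36), []⟩,
  Ent.dead (nat_lit 1) [],
  Ent.merge [(nat_lit 25)] (nat_lit 1) [] ⟨[], (nat_lit 37), []⟩,
  Ent.dead (nat_lit 1) [],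
  Ent.split [⟨[], (nat_lit 38), []⟩, ⟨[], (nat_lit 39), []⟩],
  Ent.split [⟨[], (nat_lit 40), []⟩, ⟨[], (nat_lit 41), []⟩],
  Ent.split [⟨[], (nat_lit 42), []⟩, ⟨[], (nat_lit 43), []⟩]]
noncomputable def a_F : List To := [⟨[], (nat_lit 0), []⟩,
  ⟨[(nat_lit 23), (nat_lit 45), (nat_lit 42), (nat_lit 19), (nat_lit 5)], (nat_lit 1), []⟩,
  ⟨[(nat_lit 44), (nat_lit 59), (nat_lit 47), (nat_lit 33), (nat_lit 21)], (nat_lit 2), []⟩,
  ⟨[(nat_lit 27), (nat_lit 43), (nat_lit 42), (nat_lit 38), (nat_lit 47)], (nat_lit 2), []⟩,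
  ⟨[(nat_lit 19), (nat_lit 48), (nat_lit 44), (nat_lit 59), (nat_lit 50), (nat_lit 39)], (nat_lit 2), []⟩,
  ⟨[(nat_lit 31), (nat_lit 49), (nat_lit 59), (nat_lit 46), (nat_lit 17), (nat_lit 9)], (nat_lit 3), []⟩,
  ⟨[(nat_lit 28), (nat_lit 33), (nat_lit 50), (nat_lit 39)], (nat_lit 1), []⟩,
  ⟨[(nat_lit 28), (nat_lit 53), (nat_lit 28), (nat_lit 21), (nat_lit 45)], (nat_lit 2), []⟩,
  ⟨[(nat_lit 43), (nat_lit 38), (nat_lit 7), (nat_lit 22), (nat_lit 49), (nat_lit 9)], (nat_lit 2), []⟩,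
  ⟨[(nat_lit 27), (nat_lit 46), (nat_lit 37), (nat_lit 44), (nat_lit 38)], (nat_lit 2), []⟩,
  ⟨[(nat_lit 32), (nat_lit 46), (nat_lit 29), (nat_lit 41), (nat_lit 48), (nat_lit 28), (nat_lit 59)], (nat_lit 3), []⟩,
  ⟨[(nat_lit 22), (nat_lit 27), (nat_lit 31), (nat_lit 50), (nat_lit 41), (nat_lit 33)], (nat_lit 3), []⟩,
  ⟨[(nat_lit 23), (nat_lit 59), (nat_lit 38), (nat_lit 44), (nat_lit 5), (nat_lit 42)], (nat_lit 2), []⟩,
  ⟨[(nat_lit 7), (nat_lit 47), (nat_lit 50), (nat_lit 40), (nat_lit 30), (nat_lit 47)], (nat_lit 3), []⟩,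
  ⟨[(nat_lit 29), (nat_lit 59), (nat_lit 30), (nat_lit 5), (nat_lit 48)], (nat_lit 2), []⟩,
  ⟨[(nat_lit 31), (nat_lit 52), (nat_lit 47), (nat_lit 59), (nat_lit 21), (nat_lit 37)], (nat_lit 3), []⟩,
  ⟨[(nat_lit 7), (nat_lit 47), (nat_lit 30), (nat_lit 5), (nat_lit 38), (nat_lit 22)], (nat_lit 2), []⟩,
  ⟨[(nat_lit 7), (nat_lit 27), (nat_lit 56), (nat_lit 33), (nat_lit 5), (nat_lit 51)], (nat_lit 2), []⟩,
  ⟨[(nat_lit 48), (nat_lit 44), (nat_lit 50), (nat_lit 32), (nat_lit 47)], (nat_lit 3), []⟩,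
  ⟨[(nat_lit 32), (nat_lit 49), (nat_lit 47), (nat_lit 7), (nat_lit 56), (nat_lit 32)], (nat_lit 1), []⟩,
  ⟨[(nat_lit 29), (nat_lit 27), (nat_lit 51), (nat_lit 49), (nat_lit 22)], (nat_lit 2), []⟩,
  ⟨[(nat_lit 29), (nat_lit 15), (nat_lit 49), (nat_lit 38), (nat_lit 59), (nat_lit 22), (nat_lit 56)], (nat_lit 3), []⟩,
  ⟨[(nat_lit 42), (nat_lit 44), (nat_lit 22), (nat_lit 40), (nat_lit 48)], (nat_lit 3), []⟩,
  ⟨[(nat_lit 11), (nat_lit 45), (nat_lit 32), (nat_lit 55), (nat_lit 51), (nat_lit 43)], (nat_lit 3), []⟩,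
  ⟨[(nat_lit 21), (nat_lit 53), (nat_lit 24), (nat_lit 32), (nat_lit 42), (nat_lit 7)], (nat_lit 3), []⟩,
  ⟨[(nat_lit 19), (nat_lit 53), (nat_lit 24), (nat_lit 59), (nat_lit 38), (nat_lit 22)], (nat_lit 2), []⟩,
  ⟨[(nat_lit 46), (nat_lit 59), (nat_lit 33), (nat_lit 39), (nat_lit 38), (nat_lit 13)], (nat_lit 3), []⟩,
  ⟨[(nat_lit 40), (nat_lit 29), (nat_lit 24), (nat_lit 49), (nat_lit 46), (nat_lit 21)], (nat_lit 2), []⟩,
  ⟨[(nat_lit 33), (nat_lit 42), (nat_lit 32), (nat_lit 37), (nat_lit 48), (nat_lit 30)], (nat_lit 2), []⟩,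
  ⟨[(nat_lit 19), (nat_lit 50), (nat_lit 22), (nat_lit 29), (nat_lit 39), (nat_lit 59)], (nat_lit 3), []⟩,
  ⟨[(nat_lit 31), (nat_lit 39), (nat_lit 43), (nat_lit 33), (nat_lit 23), (nat_lit 22)], (nat_lit 2), []⟩,
  ⟨[(nat_lit 41), (nat_lit 38), (nat_lit 42), (nat_lit 29), (nat_lit 31), (nat_lit 53)], (nat_lit 3), []⟩,
  ⟨[(nat_lit 46), (nat_lit 48), (nat_lit 59), (nat_lit 43), (nat_lit 33), (nat_lit 23), (nat_lit 43)], (nat_lit 2), []⟩,
  ⟨[(nat_lit 17), (nat_lit 31), (nat_lit 49), (nat_lit 30), (nat_lit 45), (nat_lit 31)], (nat_lit 3), []⟩,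
  ⟨[(nat_lit 59), (nat_lit 48), (nat_lit 27), (nat_lit 55), (nat_lit 39)], (nat_lit 2), []⟩,
  ⟨[(nat_lit 11), (nat_lit 21), (nat_lit 49), (nat_lit 29), (nat_lit 46), (nat_lit 15)], (nat_lit 3), []⟩,
  ⟨[(nat_lit 22), (nat_lit 41), (nat_lit 59), (nat_lit 53), (nat_lit 46), (nat_lit 52)], (nat_lit 2), []⟩,
  ⟨[(nat_lit 48), (nat_lit 41), (nat_lit 5), (nat_lit 55), (nat_lit 31), (nat_lit 53)], (nat_lit 3), []⟩,
  ⟨[(nat_lit 19), (nat_lit 23), (nat_lit 31), (nat_lit 15), (nat_lit 46), (nat_lit 39)], (nat_lit 3), []⟩,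
  ⟨[(nat_lit 47), (nat_lit 39), (nat_lit 29), (nat_lit 59), (nat_lit 22), (nat_lit 37), (nat_lit 27)], (nat_lit 2), []⟩,
  ⟨[(nat_lit 59), (nat_lit 41), (nat_lit 7), (nat_lit 39), (nat_lit 50)], (nat_lit 3), []⟩,
  ⟨[(nat_lit 46), (nat_lit 48), (nat_lit 27), (nat_lit 52), (nat_lit 39), (nat_lit 47)], (nat_lit 2), []⟩,
  ⟨[(nat_lit 31), (nat_lit 22), (nat_lit 56), (nat_lit 46), (nat_lit 42), (nat_lit 11)], (nat_lit 2), []⟩,
  ⟨[(nat_lit 46), (nat_lit 21), (nat_lit 43), (nat_lit 45), (nat_lit 21), (nat_lit 40)], (nat_lit 3), []⟩]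

theorem hs_com : comOK eq0 HS [w0] = true := by decide +kernel
theorem a_cen_0 : allFrom (cenAt (eqLq eB) 2 a_gs a_pc) 0 15 = true := by decide +kernel
theorem a_u_inc : incOK a_u_pi 3510 420 = true := by decide +kernel
theorem a_u_wf : wfAll a_u_N 420 = true := by decide +kernel
theorem a_u_tab_0 : allFrom (tabOK a_u_N 420 9 9 10 a_u_TT) 0 13 = true := by decide +kernel
theorem a_u_tabs : Tabs a_u_N 420 10 9 a_u_TT 12 :=
  tabs_of (k := 9) (wf_of_wfAll a_u_wf) (by decide) (by decide) (by decide) (lt_add_all lt_zero_all 13 a_u_tab_0)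
theorem a_u_s_0 : allFrom (subT (evT TT (nat_lit 60) (nat_lit 10) (nat_lit 1023) (nat_lit 12) (nat_lit 4095)) (recT a_u_TT (nat_lit 10) (nat_lit 1023) (nat_lit 9) (nat_lit 511)) a_u_pi a_hs (nat_lit 420)) 0 6 = true := by decide +kernel
theorem a_ge : geOK a_u_N 420 (gensW 6) a_c 65536 = true := by decide +kernel
theorem a_mem : memOK (eqLq eB) a_gs a_hs [[],  [(nat_lit 1)],  [(nat_lit 3)],  [(nat_lit 5)],  [(nat_lit 7)],  [(nat_lit 9)]] = true := by decide +kernel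
theorem a_e0_0 : allFrom (entAt (eqLq eB) 2 a_gs (lapp a_gs (lapp [] [])) 0 a_X0 a_X1 a_E0) 0 1 = true := by decide +kernel
theorem a_e1_0 : allFrom (entAt (eqLq eB) 2 a_gs (lapp a_gs (lapp [] [])) 1 a_X1 a_X2 a_E1) 0 2 = true := by decide +kernel
theorem a_e2_0 : allFrom (entAt (eqLq eB) 2 a_gs (lapp a_gs (lapp [] [])) 2 a_X2 a_X3 a_E2) 0 4 = true := by decide +kernel
theorem a_e3_0 : allFrom (entAt (eqLq eB) 2 a_gs (lapp a_gs (lapp [] [])) 3 a_X3 a_X4 a_E3) 0 8 = true := by decide +kernel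
theorem a_e4_0 : allFrom (entAt (eqLq eB) 2 a_gs (lapp a_gs (lapp [] [])) 4 a_X4 a_X5 a_E4) 0 16 = true := by decide +kernel
theorem a_e5_0 : allFrom (entAt (eqLq eB) 2 a_gs (lapp a_gs (lapp [] [])) 5 a_X5 a_X6 a_E5) 0 11 = true := by decide +kernel
theorem a_e6_0 : allFrom (entAt (eqLq eB) 2 a_gs (lapp a_gs (lapp [] [])) 6 a_X6 a_X7 a_E6) 0 10 = true := by decide +kernel
theorem a_e7_0 : allFrom (entAt (eqLq eB) 2 a_gs (lapp a_gs (lapp [] [])) 7 a_X7 a_X8 a_E7) 0 20 = true := by decide +kernel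
theorem a_e8_0 : allFrom (entAt (eqLq eB) 2 a_gs (lapp a_gs (lapp [] [])) 8 a_X8 a_X9 a_E8) 0 29 = true := by decide +kernel
theorem a_e9_0 : allFrom (entAt (eqLq eB) 2 a_gs (lapp a_gs (lapp [] [])) 9 a_X9 a_X10 a_E9) 0 50 = true := by decide +kernel
theorem a_e10_0 : allFrom (entAt (eqLq eB) 2 a_gs (lapp a_gs (lapp [] [])) 10 a_X10 a_X11 a_E10) 0 44 = true := by decide +kernel
theorem a_e11_0 : allFrom (entAt (eqLq eB) 2 a_gs (lapp a_gs (lapp [] [])) 11 a_X11 a_X12 a_E11) 0 35 = true := by decide +kernel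
theorem a_e12_0 : allFrom (entAt (eqLq eB) 2 a_gs (lapp a_gs (lapp [] [])) 12 a_X12 a_X13 a_E12) 0 58 = true := by decide +kernel
theorem a_e13_0 : allFrom (entAt (eqLq eB) 2 a_gs (lapp a_gs (lapp [] [])) 13 a_X13 a_X14 a_E13) 0 46 = true := by decide +kernel
theorem a_e14_0 : allFrom (entAt (eqLq eB) 2 a_gs (lapp a_gs (lapp [] [])) 14 a_X14 a_X15 a_E14) 0 46 = true := by decide +kernel
theorem a_f_0 : allFrom (finAt (eqLq eB) a_gs a_X15 [[], [5], [5, 9], [5, 9, 15]] a_F) 0 44 = true := by decide +kernel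

variable {G : Type*} [Group G] {D : Set G} {E : Dom (Cj G) 3510} {f : ℕ → G} {NN : List Net}

theorem a_u_reps (M : M22 D E f) : Reps (Dom.lst E a_u_pi a_u_inc) a_u_N (evs f a_hs) :=
  Reps.subT M.reps tabs (by decide) (wf_of_wfAll a_u_wf) a_u_tabs (l := 6) (by decide) rfl rfl a_u_inc
    (by decide) (by decide) (by decide) (by decide) (lt_add_all lt_zero_all 6 a_u_s_0)
theorem _root_.CF.Fisch.F22.M22.md (M : M22 D E f) : Md (ev f w0) (sv E Q) :=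
  have := M.finite
  ⟨M.dd ▸ M.primTT.qiso_bar M.base_mem, M.clQ, M.ord M.base_mem,
    fun _ h1 h2 => eq_or_of_mem_zpowers (M.ord M.base_mem) (M.cz h1 h2.symm)⟩
/-- the letters in the local group -/
noncomputable def fb (E : Dom (Cj G) 3510) (f : ℕ → G) (i : ℕ) : Loc (sv E Q) := barm _ (evs f HS i)
theorem hF (M : M22 D E f) (i : ℕ) : evs f HS i ∈ closure (sv E Q) :=
  M.clQ ▸ M.sm0.com_le1 hs_com (nth_mem_clo i)
theorem smB (M : M22 D E f) : IsSm (fb E f) eB := M.md.isSm (M.sm0.evs HS) (hF M) (ev_evs _ _)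
theorem fin (M : M22 D E f) : Finite (Loc (sv E Q)) := have := M.finite; inferInstance
theorem a_cens (M : M22 D E f) : CenS (fb E f) 2 a_gs := by
  have := M.finite
  refine ⟨(smB M).eqLq.cenR (l := 15) rfl (lt_add_all lt_zero_all 15 a_cen_0), by norm_num, ?_⟩
  have h1 := Reps.card_geT (a_u_reps M) (by decide) rfl a_ge
  have h2 := M.md.card_le (hF M) a_hs
  rw [clo_evs, show lmap (subst HS) a_hs = a_hs by decide +kernel] at h2
  have h3 := card_le_of_le ((smB M).eqLq.le a_mem)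
  exact le_trans (Nat.le_of_mul_le_mul_left (h1.trans h2) two_pos) h3
theorem a_cl0 : Cl (fb E f) 2 a_gs ⊤ 0 a_X0 := Cl.zero _
theorem a_cl1 (M : M22 D E f) : Cl (fb E f) 2 a_gs ⊤ 1 a_X1 :=
  have := fin M
  a_cl0.step' (smB M).eqLq (a_cens M) (us := []) rfl (l := 1) (by decide +kernel) (lt_add_all lt_zero_all 1 a_e0_0)
theorem a_cl2 (M : M22 D E f) : Cl (fb E f) 2 a_gs ⊤ 2 a_X2 :=
  have := fin M
  (a_cl1 M).step' (smB M).eqLq (a_cens M) (us := []) rfl (l := 2) (by decide +kernel) (lt_add_all lt_zero_all 2 a_e1_0)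
theorem a_cl3 (M : M22 D E f) : Cl (fb E f) 2 a_gs ⊤ 3 a_X3 :=
  have := fin M
  (a_cl2 M).step' (smB M).eqLq (a_cens M) (us := []) rfl (l := 4) (by decide +kernel) (lt_add_all lt_zero_all 4 a_e2_0)
theorem a_cl4 (M : M22 D E f) : Cl (fb E f) 2 a_gs ⊤ 4 a_X4 :=
  have := fin M
  (a_cl3 M).step' (smB M).eqLq (a_cens M) (us := []) rfl (l := 8) (by decide +kernel) (lt_add_all lt_zero_all 8 a_e3_0)
theorem a_cl5 (M : M22 D E f) : Cl (fb E f) 2 a_gs ⊤ 5 a_X5 :=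
  have := fin M
  (a_cl4 M).step' (smB M).eqLq (a_cens M) (us := []) rfl (l := 16) (by decide +kernel) (lt_add_all lt_zero_all 16 a_e4_0)
theorem a_cl6 (M : M22 D E f) : Cl (fb E f) 2 a_gs ⊤ 6 a_X6 :=
  have := fin M
  (a_cl5 M).step' (smB M).eqLq (a_cens M) (us := []) rfl (l := 11) (by decide +kernel) (lt_add_all lt_zero_all 11 a_e5_0)
theorem a_cl7 (M : M22 D E f) : Cl (fb E f) 2 a_gs ⊤ 7 a_X7 :=
  have := fin M
  (a_cl6 M).step' (smB M).eqLq (a_cens M) (us := []) rfl (l := 10) (by decide +kernel) (lt_add_all lt_zero_all 10 a_e6_0)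
theorem a_cl8 (M : M22 D E f) : Cl (fb E f) 2 a_gs ⊤ 8 a_X8 :=
  have := fin M
  (a_cl7 M).step' (smB M).eqLq (a_cens M) (us := []) rfl (l := 20) (by decide +kernel) (lt_add_all lt_zero_all 20 a_e7_0)
theorem a_cl9 (M : M22 D E f) : Cl (fb E f) 2 a_gs ⊤ 9 a_X9 :=
  have := fin M
  (a_cl8 M).step' (smB M).eqLq (a_cens M) (us := []) rfl (l := 29) (by decide +kernel) (lt_add_all lt_zero_all 29 a_e8_0)
theorem a_cl10 (M : M22 D E f) : Cl (fb E f) 2 a_gs ⊤ 10 a_X10 :=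
  have := fin M
  (a_cl9 M).step' (smB M).eqLq (a_cens M) (us := []) rfl (l := 50) (by decide +kernel) (lt_add_all lt_zero_all 50 a_e9_0)
theorem a_cl11 (M : M22 D E f) : Cl (fb E f) 2 a_gs ⊤ 11 a_X11 :=
  have := fin M
  (a_cl10 M).step' (smB M).eqLq (a_cens M) (us := []) rfl (l := 44) (by decide +kernel) (lt_add_all lt_zero_all 44 a_e10_0)
theorem a_cl12 (M : M22 D E f) : Cl (fb E f) 2 a_gs ⊤ 12 a_X12 :=
  have := fin M
  (a_cl11 M).step' (smB M).eqLq (a_cens M) (us := []) rfl (l := 35) (by decide +kernel) (lt_add_all lt_zero_all 35 a_e11_0)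
theorem a_cl13 (M : M22 D E f) : Cl (fb E f) 2 a_gs ⊤ 13 a_X13 :=
  have := fin M
  (a_cl12 M).step' (smB M).eqLq (a_cens M) (us := []) rfl (l := 58) (by decide +kernel) (lt_add_all lt_zero_all 58 a_e12_0)
theorem a_cl14 (M : M22 D E f) : Cl (fb E f) 2 a_gs ⊤ 14 a_X14 :=
  have := fin M
  (a_cl13 M).step' (smB M).eqLq (a_cens M) (us := []) rfl (l := 46) (by decide +kernel) (lt_add_all lt_zero_all 46 a_e13_0)
theorem a_cl15 (M : M22 D E f) : Cl (fb E f) 2 a_gs ⊤ 15 a_X15 :=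
  have := fin M
  (a_cl14 M).step' (smB M).eqLq (a_cens M) (us := []) rfl (l := 46) (by decide +kernel) (lt_add_all lt_zero_all 46 a_e14_0)
theorem cardL (M : M22 D E f) : Nat.card (Loc (sv E Q)) = 9196830720 :=
  Nat.eq_of_mul_eq_mul_left two_pos (M.md.dc.card.symm.trans (M.cloX ▸ M.cardX :))
theorem a_all (M : M22 D E f) : ∀ y : Loc (sv E Q), y ^ 2 = 1 → ∃ r ∈ [[], [5], [5, 9], [5, 9, 15]], IsConj y (ev (fb E f) r) :=
  have := fin M
  (a_cl15 M).all (smB M).eqLq (a_cens M) (l := 44) (m := 280665) (by decide +kernel) (lt_add_all lt_zero_all 44 a_f_0)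
    (by rw [cardL M]; norm_num) (by decide)

/-- the involutions of the local group -/
theorem invs (M : M22 D E f) (k : Loc (sv E Q)) (hk : k * k = 1) :
    ∃ r ∈ [1, ev f [5], ev f [5] * ev f [9], ev f [5] * ev f [9] * ev f [15]], IsConj k (barm (sv E Q) r) := by
  obtain ⟨r, hr, h⟩ := a_all M k (by rw [pow_two, hk])
  rw [show ev (fb E f) r = _ from ev_barm (hF M) r, ev_evs] at h
  refine ⟨_, ?_, h⟩
  simp only [← ev_lapp, List.mem_cons, List.not_mem_nil, or_false] at hr ⊢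
  rcases hr with rfl | rfl | rfl | rfl
  exacts [Or.inl rfl, Or.inr (Or.inl rfl), Or.inr (Or.inr (Or.inl rfl)), Or.inr (Or.inr (Or.inr rfl))]

end CF.Fisch.F22.LU
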