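import Cfsg.Agent.Fisch.Rc.UE
import Cfsg.Agent.Fisch.Q
import Cfsg.Agent.Comp.Big
import Cfsg.Agent.Comp.Fi22.Main

set_option autoImplicit false
set_option maxRecDepth 1000000
set_option maxHeartbeats 0

namespace CF.Comp.U6

open CF.Fisch

noncomputable def e7_c0 : BT (Bx Nat) := (BT.leaf (Bx.mk (nat_lit 0x0)))
noncomputable def e7_c1 : BT (Bx Nat) := (BT.leaf (Bx.mk (nat_lit 0x145a7918091c7916803b2977803931753194397339923b714170418f43ee498d4c4c6109564a698b716769087905802664446be3736280610000)))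
noncomputable def e7_c2 : BT (Bx Nat) := (BT.leaf (Bx.mk (nat_lit 0x2e3c2bdb78f7359978f5803a78f3803831b4803639b23b31457041af43ce71ab4e2c68ed78e851a9802a5d675d8678e480256bc3732280610000)))
noncomputable def e7_c3 : BT (Bx Nat) := (BT.leaf (Bx.mk (nat_lit 0x78d810da1ebb3559803c2a173d36321531d460d039d23b516a1371cd460e68cf78ca49cb802c51c952085a075d46652578c38024734280610000)))
noncomputable def e7_c4 : BT (Bx Nat) := (BT.leaf (Bx.mk (nat_lit 0x351c40b9229a4adb50b62a575a9860b331f46a5571ef3df13a5068b278ac41ed802e49eb4a8a51e952485a475ac662856d0478a2802380610000)))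
noncomputable def e7_c5 : BT (Bx Nat) := (BT.leaf (Bx.mk (nat_lit 0x89b14dc509824f95aba60952ab66a77723232736894788e3a703a2f8031422d44cc4a2b4aaa522952685a675ce662a56cc474a3788180220000)))
noncomputable def e7_c6 : BT (Bx Nat) := (BT.leaf (Bx.mk (nat_lit 0x2c1c2b9b2afa3499339832f73c763b9579514413794e80344e90794c8032794a802f7948802d7947802b802954865c6564046b8372e280610000)))
noncomputable def e7_c7 : BT (Bx Nat) := (BT.leaf (Bx.mk (nat_lit 0x2c3c2bbb2b1a35d933b879343e7679328037792f80353b11792d803343ae80304c2c4dcb566a55a9792679258028802764246ba3730280610000)))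
noncomputable def e7_p : BT (Bx Nat) := (BT.leaf (Bx.mk (nat_lit 0x6e03dc03b70b2c0e542ca0f730ae43dc46a78f4e1a9c2cb47960d2c121434283740ce8098e33187528ea50508118c3210821140000000)))
noncomputable def e7_e0 : BT Nat := (BT.node (nat_lit 68) (BT.node (nat_lit 66) (BT.leaf (nat_lit 1310722)) (BT.node (nat_lit 67) (BT.leaf (nat_lit 524290)) (BT.leaf (nat_lit 786434)))) (BT.node (nat_lit 70) (BT.leaf (nat_lit 1048578)) (BT.node (nat_lit 71) (BT.leaf (nat_lit 2)) (BT.leaf (nat_lit 262146)))))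
noncomputable def e7_e : BT Nat := e7_e0
noncomputable def e7_cols : List (BT (Bx Nat)) := [e7_c0, e7_c1, e7_c2, e7_c3, e7_c4, e7_c5, e7_c6, e7_c7]
noncomputable def e7_ch (x j : Nat) : Bx Nat := chunkG e7_cols (nat_lit 1) x j
noncomputable def e7_L (x : Nat) : Bx (Nat → Nat) := lookG e7_ch (nat_lit 8) (nat_lit 255) (nat_lit 16) (nat_lit 65535) x
noncomputable def e7_pc (_ j : Nat) : Bx Nat := e7_p.get j
noncomputable def e7_pb : Bx (Nat → Nat) := lookG e7_pc (nat_lit 8) (nat_lit 255) (nat_lit 15) (nat_lit 32767) (nat_lit 0)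
noncomputable def e7_rots : BT CW := (BT.node (nat_lit 26) (BT.node (nat_lit 13) (BT.node (nat_lit 6) (BT.node (nat_lit 3) (BT.node (nat_lit 1) (BT.leaf ⟨[], (nat_lit 1000000), (nat_lit 0), (nat_lit 0), (nat_lit 0)⟩) (BT.node (nat_lit 2) (BT.leaf ⟨[], (nat_lit 1000000), (nat_lit 0), (nat_lit 0), (nat_lit 1)⟩) (BT.leaf ⟨[], (nat_lit 1000000), (nat_lit 0), (nat_lit 0), (nat_lit 2)⟩))) (BT.node (nat_lit 4) (BT.leaf ⟨[(nat_lit 5), (nat_lit 5)], (nat_lit 4), (nat_lit 0), (nat_lit 0), (nat_lit 3)⟩) (BT.node (nat_lit 5) (BT.leaf ⟨[(nat_lit 4), (nat_lit 4)], (nat_lit 3), (nat_lit 0), (nat_lit 0), (nat_lit 3)⟩) (BT.leaf ⟨[(nat_lit 3), (nat_lit 3)], (nat_lit 2), (nat_lit 0), (nat_lit 0), (nat_lit 3)⟩)))) (BT.node (nat_lit 9) (BT.node (nat_lit 7) (BT.leaf ⟨[(nat_lit 2), (nat_lit 2)], (nat_lit 1), (nat_lit 0), (nat_lit 0), (nat_lit 3)⟩) (BT.node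 (nat_lit 8) (BT.leaf ⟨[(nat_lit 1), (nat_lit 1)], (nat_lit 0), (nat_lit 0), (nat_lit 0), (nat_lit 3)⟩) (BT.leaf ⟨[(nat_lit 7), (nat_lit 7)], (nat_lit 6), (nat_lit 0), (nat_lit 0), (nat_lit 3)⟩))) (BT.node (nat_lit 11) (BT.node (nat_lit 10) (BT.leaf ⟨[(nat_lit 6), (nat_lit 6)], (nat_lit 5), (nat_lit 0), (nat_lit 0), (nat_lit 3)⟩) (BT.leaf ⟨[(nat_lit 1), (nat_lit 7), (nat_lit 1), (nat_lit 7)], (nat_lit 12), (nat_lit 0), (nat_lit 0), (nat_lit 3)⟩)) (BT.node (nat_lit 12) (BT.leaf ⟨[(nat_lit 1), (nat_lit 6), (nat_lit 1), (nat_lit 6)], (nat_lit 11), (nat_lit 0), (nat_lit 0), (nat_lit 3)⟩) (BT.leaf ⟨[(nat_lit 2), (nat_lit 6), (nat_lit 2), (nat_lit 6)], (nat_lit 16), (nat_lit 0), (nat_lit 0), (nat_lit 3)⟩))))) (BT.node (nat_lit 19) (BT.node (nat_lit 16) (BT.node (nat_lit 14) (BT.leaf ⟨[(nat_lit 3), (nat_lit 6), (nat_lit 3), (nat_lit 6)],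 (nat_lit 20), (nat_lit 0), (nat_lit 0), (nat_lit 3)⟩) (BT.node (nat_lit 15) (BT.leaf ⟨[(nat_lit 4), (nat_lit 6), (nat_lit 4), (nat_lit 6)], (nat_lit 23), (nat_lit 0), (nat_lit 0), (nat_lit 3)⟩) (BT.leaf ⟨[(nat_lit 3), (nat_lit 7), (nat_lit 3), (nat_lit 7)], (nat_lit 21), (nat_lit 0), (nat_lit 0), (nat_lit 3)⟩))) (BT.node (nat_lit 17) (BT.leaf ⟨[(nat_lit 5), (nat_lit 6), (nat_lit 5), (nat_lit 6)], (nat_lit 25), (nat_lit 0), (nat_lit 0), (nat_lit 3)⟩) (BT.node (nat_lit 18) (BT.leaf ⟨[(nat_lit 4), (nat_lit 7), (nat_lit 4), (nat_lit 7)], (nat_lit 24), (nat_lit 0), (nat_lit 0), (nat_lit 3)⟩) (BT.leaf ⟨[(nat_lit 5), (nat_lit 7), (nat_lit 5), (nat_lit 7)], (nat_lit 26), (nat_lit 0), (nat_lit 0), (nat_lit 3)⟩)))) (BT.node (nat_lit 22) (BT.node (nat_lit 20) (BT.leaf ⟨[(nat_lit 4), (nat_lit 2), (nat_lit 4), (nat_lit 2)], (nat_lit 14), (nat_lit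 1), (nat_lit 0), (nat_lit 3)⟩) (BT.node (nat_lit 21) (BT.leaf ⟨[(nat_lit 5), (nat_lit 2), (nat_lit 5), (nat_lit 2)], (nat_lit 15), (nat_lit 1), (nat_lit 0), (nat_lit 3)⟩) (BT.leaf ⟨[(nat_lit 4), (nat_lit 1), (nat_lit 4), (nat_lit 1)], (nat_lit 9), (nat_lit 1), (nat_lit 0), (nat_lit 3)⟩))) (BT.node (nat_lit 24) (BT.node (nat_lit 23) (BT.leaf ⟨[(nat_lit 6), (nat_lit 5), (nat_lit 6), (nat_lit 5)], (nat_lit 25), (nat_lit 1), (nat_lit 0), (nat_lit 3)⟩) (BT.leaf ⟨[(nat_lit 7), (nat_lit 5), (nat_lit 7), (nat_lit 5)], (nat_lit 26), (nat_lit 1), (nat_lit 0), (nat_lit 3)⟩)) (BT.node (nat_lit 25) (BT.leaf ⟨[(nat_lit 2), (nat_lit 5), (nat_lit 2), (nat_lit 5)], (nat_lit 15), (nat_lit 0), (nat_lit 0), (nat_lit 3)⟩) (BT.leaf ⟨[(nat_lit 3), (nat_lit 5), (nat_lit 3), (nat_lit 5)], (nat_lit 19), (nat_lit 0), (nat_lit 0), (nat_lit 3)⟩)))))) (BT.node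 (nat_lit 39) (BT.node (nat_lit 32) (BT.node (nat_lit 29) (BT.node (nat_lit 27) (BT.leaf ⟨[(nat_lit 1), (nat_lit 5), (nat_lit 1), (nat_lit 5)], (nat_lit 10), (nat_lit 0), (nat_lit 0), (nat_lit 3)⟩) (BT.node (nat_lit 28) (BT.leaf ⟨[(nat_lit 6), (nat_lit 4), (nat_lit 6), (nat_lit 4)], (nat_lit 23), (nat_lit 1), (nat_lit 0), (nat_lit 3)⟩) (BT.leaf ⟨[(nat_lit 7), (nat_lit 4), (nat_lit 7), (nat_lit 4)], (nat_lit 24), (nat_lit 1), (nat_lit 0), (nat_lit 3)⟩))) (BT.node (nat_lit 30) (BT.leaf ⟨[(nat_lit 2), (nat_lit 4), (nat_lit 2), (nat_lit 4)], (nat_lit 14), (nat_lit 0), (nat_lit 0), (nat_lit 3)⟩) (BT.node (nat_lit 31) (BT.leaf ⟨[(nat_lit 1), (nat_lit 4), (nat_lit 1), (nat_lit 4)], (nat_lit 9), (nat_lit 0), (nat_lit 0), (nat_lit 3)⟩) (BT.leaf ⟨[(nat_lit 6), (nat_lit 3), (nat_lit 6), (nat_lit 3)], (nat_lit 20), (nat_lit 1), (nat_lit 0), (nat_lit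 3)⟩)))) (BT.node (nat_lit 35) (BT.node (nat_lit 33) (BT.leaf ⟨[(nat_lit 7), (nat_lit 3), (nat_lit 7), (nat_lit 3)], (nat_lit 21), (nat_lit 1), (nat_lit 0), (nat_lit 3)⟩) (BT.node (nat_lit 34) (BT.leaf ⟨[(nat_lit 1), (nat_lit 3), (nat_lit 1), (nat_lit 3)], (nat_lit 8), (nat_lit 0), (nat_lit 0), (nat_lit 3)⟩) (BT.leaf ⟨[(nat_lit 6), (nat_lit 2), (nat_lit 6), (nat_lit 2)], (nat_lit 16), (nat_lit 1), (nat_lit 0), (nat_lit 3)⟩))) (BT.node (nat_lit 37) (BT.node (nat_lit 36) (BT.leaf ⟨[(nat_lit 6), (nat_lit 1), (nat_lit 6), (nat_lit 1)], (nat_lit 11), (nat_lit 1), (nat_lit 0), (nat_lit 3)⟩) (BT.leaf ⟨[(nat_lit 5), (nat_lit 4), (nat_lit 5), (nat_lit 4), (nat_lit 5), (nat_lit 4)], (nat_lit 22), (nat_lit 1), (nat_lit 0), (nat_lit 3)⟩)) (BT.node (nat_lit 38) (BT.leaf ⟨[(nat_lit 5), (nat_lit 3), (nat_lit 5), (nat_lit 3)], (nat_lit 19), (nat_lit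 1), (nat_lit 0), (nat_lit 3)⟩) (BT.leaf ⟨[(nat_lit 5), (nat_lit 1), (nat_lit 5), (nat_lit 1)], (nat_lit 10), (nat_lit 1), (nat_lit 0), (nat_lit 3)⟩))))) (BT.node (nat_lit 46) (BT.node (nat_lit 42) (BT.node (nat_lit 40) (BT.leaf ⟨[(nat_lit 4), (nat_lit 3), (nat_lit 4), (nat_lit 3), (nat_lit 4), (nat_lit 3)], (nat_lit 18), (nat_lit 1), (nat_lit 0), (nat_lit 3)⟩) (BT.node (nat_lit 41) (BT.leaf ⟨[(nat_lit 3), (nat_lit 2), (nat_lit 3), (nat_lit 2), (nat_lit 3), (nat_lit 2)], (nat_lit 13), (nat_lit 1), (nat_lit 0), (nat_lit 3)⟩) (BT.leaf ⟨[(nat_lit 3), (nat_lit 1), (nat_lit 3), (nat_lit 1)], (nat_lit 8), (nat_lit 1), (nat_lit 0), (nat_lit 3)⟩))) (BT.node (nat_lit 44) (BT.node (nat_lit 43) (BT.leaf ⟨[(nat_lit 2), (nat_lit 7), (nat_lit 2), (nat_lit 7), (nat_lit 2), (nat_lit 7)], (nat_lit 17), (nat_lit 0), (nat_lit 0), (nat_lit 3)⟩) (BT.leaf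 ⟨[(nat_lit 2), (nat_lit 1), (nat_lit 2), (nat_lit 1), (nat_lit 2), (nat_lit 1)], (nat_lit 7), (nat_lit 1), (nat_lit 0), (nat_lit 3)⟩)) (BT.node (nat_lit 45) (BT.leaf ⟨[(nat_lit 7), (nat_lit 6), (nat_lit 7), (nat_lit 6), (nat_lit 7), (nat_lit 6)], (nat_lit 27), (nat_lit 1), (nat_lit 0), (nat_lit 3)⟩) (BT.leaf ⟨[(nat_lit 7), (nat_lit 1), (nat_lit 7), (nat_lit 1)], (nat_lit 12), (nat_lit 1), (nat_lit 0), (nat_lit 3)⟩)))) (BT.node (nat_lit 49) (BT.node (nat_lit 47) (BT.leaf ⟨[(nat_lit 4), (nat_lit 5), (nat_lit 4), (nat_lit 5), (nat_lit 4), (nat_lit 5)], (nat_lit 22), (nat_lit 0), (nat_lit 0), (nat_lit 3)⟩) (BT.node (nat_lit 48) (BT.leaf ⟨[(nat_lit 3), (nat_lit 4), (nat_lit 3), (nat_lit 4), (nat_lit 3), (nat_lit 4)], (nat_lit 18), (nat_lit 0), (nat_lit 0), (nat_lit 3)⟩) (BT.leaf ⟨[(nat_lit 2), (nat_lit 3), (nat_lit 2), (nat_lit 3), (nat_lit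 2), (nat_lit 3)], (nat_lit 13), (nat_lit 0), (nat_lit 0), (nat_lit 3)⟩))) (BT.node (nat_lit 51) (BT.node (nat_lit 50) (BT.leaf ⟨[(nat_lit 1), (nat_lit 2), (nat_lit 1), (nat_lit 2), (nat_lit 1), (nat_lit 2)], (nat_lit 7), (nat_lit 0), (nat_lit 0), (nat_lit 3)⟩) (BT.leaf ⟨[(nat_lit 7), (nat_lit 2), (nat_lit 7), (nat_lit 2), (nat_lit 7), (nat_lit 2)], (nat_lit 17), (nat_lit 1), (nat_lit 0), (nat_lit 3)⟩)) (BT.node (nat_lit 52) (BT.leaf ⟨[(nat_lit 6), (nat_lit 7), (nat_lit 6), (nat_lit 7), (nat_lit 6), (nat_lit 7)], (nat_lit 27), (nat_lit 0), (nat_lit 0), (nat_lit 3)⟩) (BT.leaf ⟨[(nat_lit 3), (nat_lit 4), (nat_lit 5), (nat_lit 7), (nat_lit 6), (nat_lit 1), (nat_lit 2), (nat_lit 3), (nat_lit 4), (nat_lit 5), (nat_lit 7), (nat_lit 6), (nat_lit 1), (nat_lit 2), (nat_lit 3), (nat_lit 4), (nat_lit 5), (nat_lit 7), (nat_lit 6), (nat_lit 1),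 (nat_lit 2), (nat_lit 3), (nat_lit 4), (nat_lit 5), (nat_lit 7), (nat_lit 6), (nat_lit 1), (nat_lit 2), (nat_lit 3), (nat_lit 4), (nat_lit 5), (nat_lit 7), (nat_lit 6), (nat_lit 1), (nat_lit 2), (nat_lit 3), (nat_lit 4), (nat_lit 5), (nat_lit 7), (nat_lit 6), (nat_lit 1), (nat_lit 2), (nat_lit 3), (nat_lit 4), (nat_lit 5), (nat_lit 7), (nat_lit 6), (nat_lit 1), (nat_lit 2), (nat_lit 3), (nat_lit 4), (nat_lit 5), (nat_lit 7), (nat_lit 6), (nat_lit 1), (nat_lit 2), (nat_lit 3), (nat_lit 4), (nat_lit 5), (nat_lit 7), (nat_lit 6), (nat_lit 1), (nat_lit 2)], (nat_lit 28), (nat_lit 2), (nat_lit 0), (nat_lit 3)⟩)))))))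
noncomputable def e7_hcs : List CW := [⟨[(nat_lit 6)], (nat_lit 0), (nat_lit 0), (nat_lit 0), (nat_lit 0)⟩, ⟨[(nat_lit 7)], (nat_lit 1), (nat_lit 0), (nat_lit 0), (nat_lit 0)⟩, ⟨[(nat_lit 2)], (nat_lit 2), (nat_lit 0), (nat_lit 0), (nat_lit 0)⟩, ⟨[(nat_lit 3)], (nat_lit 3), (nat_lit 0), (nat_lit 0), (nat_lit 0)⟩, ⟨[(nat_lit 4)], (nat_lit 4), (nat_lit 0), (nat_lit 0), (nat_lit 0)⟩, ⟨[(nat_lit 1)], (nat_lit 5), (nat_lit 0), (nat_lit 0), (nat_lit 0)⟩, ⟨[(nat_lit 6)], (nat_lit 6), (nat_lit 0), (nat_lit 0), (nat_lit 0)⟩, ⟨[(nat_lit 7)], (nat_lit 7), (nat_lit 0), (nat_lit 0), (nat_lit 0)⟩, ⟨[(nat_lit 2)], (nat_lit 8), (nat_lit 0), (nat_lit 0), (nat_lit 0)⟩, ⟨[(nat_lit 3)], (nat_lit 9), (nat_lit 0), (nat_lit 0), (nat_lit 0)⟩, ⟨[(nat_lit 4)], (nat_lit 10), (nat_lit 0), (nat_lit 0), (nat_lit 0)⟩, ⟨[(nat_lit 1)], (nat_lit 11), (nat_lit 0),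 (nat_lit 0), (nat_lit 0)⟩]
noncomputable def e7_H (x j : Nat) : Bx (Nat → Nat → Nat) := mkH e7_L e7_pb.1 e7_e.get (lmap CW.w e7_hcs) (nat_lit 28) (nat_lit 29) (nat_lit 8) (nat_lit 32) (nat_lit 2048) (nat_lit 2047) x (e7_rots.get j)
noncomputable def e7_F (x b : Nat) : Bool := blkOK e7_H e7_ch (nat_lit 29) (nat_lit 32) (nat_lit 64) (nat_lit 8) (nat_lit 255) (nat_lit 16) (nat_lit 65535) x b

theorem e7_k0_0 : allFrom (e7_F (nat_lit 0)) (nat_lit 0) (nat_lit 4) = true := by decide +kernel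
theorem e7_k1_0 : allFrom (e7_F (nat_lit 1)) (nat_lit 0) (nat_lit 4) = true := by decide +kernel
theorem e7_k2_0 : allFrom (e7_F (nat_lit 2)) (nat_lit 0) (nat_lit 4) = true := by decide +kernel
theorem e7_k3_0 : allFrom (e7_F (nat_lit 3)) (nat_lit 0) (nat_lit 4) = true := by decide +kernel
theorem e7_k4_0 : allFrom (e7_F (nat_lit 4)) (nat_lit 0) (nat_lit 4) = true := by decide +kernel
theorem e7_k5_0 : allFrom (e7_F (nat_lit 5)) (nat_lit 0) (nat_lit 4) = true := by decide +kernel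
theorem e7_k6_0 : allFrom (e7_F (nat_lit 6)) (nat_lit 0) (nat_lit 4) = true := by decide +kernel
theorem e7_k7_0 : allFrom (e7_F (nat_lit 7)) (nat_lit 0) (nat_lit 4) = true := by decide +kernel
theorem e7_all : Cov e7_F 4 8 0 := by
  have h := Cov.zero e7_F 4
  have h := h.blk (b := 4) e7_k0_0 rfl
  have h := h.next (y := 1) rfl rfl
  have h := h.blk (b := 4) e7_k1_0 rfl
  have h := h.next (y := 2) rfl rfl
  have h := h.blk (b := 4) e7_k2_0 rfl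
  have h := h.next (y := 3) rfl rfl
  have h := h.blk (b := 4) e7_k3_0 rfl
  have h := h.next (y := 4) rfl rfl
  have h := h.blk (b := 4) e7_k4_0 rfl
  have h := h.next (y := 5) rfl rfl
  have h := h.blk (b := 4) e7_k5_0 rfl
  have h := h.next (y := 6) rfl rfl
  have h := h.blk (b := 4) e7_k6_0 rfl
  have h := h.next (y := 7) rfl rfl
  have h := h.blk (b := 4) e7_k7_0 rfl
  have h := h.next (y := 8) rfl rfl
  exact h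

theorem e7 : Enum r7 h6 hs 28 :=
  ⟨e7_cols, e7_ch, e7_L, e7_H, e7_pb.1, e7_e.get, [(nat_lit 0), (nat_lit 1), (nat_lit 3), (nat_lit 5), (nat_lit 7), (nat_lit 9), (nat_lit 11), (nat_lit 13)], (nat_lit 127), (nat_lit 9), e7_rots, e7_hcs,
    (nat_lit 29), (nat_lit 8), (nat_lit 32), (nat_lit 64), (nat_lit 2048), (nat_lit 2047), (nat_lit 8), (nat_lit 255), (nat_lit 16), (nat_lit 65535), (nat_lit 1), (nat_lit 4),
    fun _ _ => rfl, fun _ => rfl, fun _ _ => rfl, by decide +kernel, e7_all.1⟩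

noncomputable def qs : List QR := [⟨[], (nat_lit 1), [], (nat_lit 1)⟩,
  ⟨[], (nat_lit 3), [], (nat_lit 3)⟩,
  ⟨[], (nat_lit 5), [], (nat_lit 5)⟩,
  ⟨[], (nat_lit 7), [], (nat_lit 7)⟩,
  ⟨[], (nat_lit 9), [], (nat_lit 9)⟩,
  ⟨[], (nat_lit 11), [], (nat_lit 11)⟩,
  ⟨[], (nat_lit 13), [], (nat_lit 13)⟩,
  ⟨[], (nat_lit 15), [], (nat_lit 15)⟩,
  ⟨[], (nat_lit 17), [], (nat_lit 17)⟩,
  ⟨[(nat_lit 1)], (nat_lit 3), [(nat_lit 3)], (nat_lit 1)⟩,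
  ⟨[(nat_lit 1)], (nat_lit 5), [], (nat_lit 5)⟩,
  ⟨[(nat_lit 1)], (nat_lit 7), [], (nat_lit 7)⟩,
  ⟨[(nat_lit 1)], (nat_lit 9), [], (nat_lit 9)⟩,
  ⟨[(nat_lit 1)], (nat_lit 11), [], (nat_lit 11)⟩,
  ⟨[(nat_lit 1)], (nat_lit 13), [], (nat_lit 13)⟩,
  ⟨[(nat_lit 1)], (nat_lit 15), [], (nat_lit 15)⟩,
  ⟨[(nat_lit 1)], (nat_lit 17), [], (nat_lit 17)⟩,
  ⟨[(nat_lit 3)], (nat_lit 5), [(nat_lit 5)], (nat_lit 3)⟩,
  ⟨[(nat_lit 3)], (nat_lit 7), [], (nat_lit 7)⟩,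
  ⟨[(nat_lit 3)], (nat_lit 9), [], (nat_lit 9)⟩,
  ⟨[(nat_lit 3)], (nat_lit 11), [], (nat_lit 11)⟩,
  ⟨[(nat_lit 3)], (nat_lit 13), [(nat_lit 13)], (nat_lit 3)⟩,
  ⟨[(nat_lit 3)], (nat_lit 15), [(nat_lit 15)], (nat_lit 3)⟩,
  ⟨[(nat_lit 3)], (nat_lit 17), [(nat_lit 17)], (nat_lit 3)⟩,
  ⟨[(nat_lit 5)], (nat_lit 7), [(nat_lit 7)], (nat_lit 5)⟩,
  ⟨[(nat_lit 5)], (nat_lit 9), [], (nat_lit 9)⟩,
  ⟨[(nat_lit 5)], (nat_lit 11), [], (nat_lit 11)⟩,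
  ⟨[(nat_lit 5)], (nat_lit 13), [], (nat_lit 13)⟩,
  ⟨[(nat_lit 5)], (nat_lit 15), [], (nat_lit 15)⟩,
  ⟨[(nat_lit 5)], (nat_lit 17), [], (nat_lit 17)⟩,
  ⟨[(nat_lit 7)], (nat_lit 9), [(nat_lit 9)], (nat_lit 7)⟩,
  ⟨[(nat_lit 7)], (nat_lit 11), [], (nat_lit 11)⟩,
  ⟨[(nat_lit 7)], (nat_lit 13), [], (nat_lit 13)⟩,
  ⟨[(nat_lit 7)], (nat_lit 15), [], (nat_lit 15)⟩,
  ⟨[(nat_lit 7)], (nat_lit 17), [], (nat_lit 17)⟩,
  ⟨[(nat_lit 9)], (nat_lit 11), [], (nat_lit 11)⟩,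
  ⟨[(nat_lit 9)], (nat_lit 13), [], (nat_lit 13)⟩,
  ⟨[(nat_lit 9)], (nat_lit 15), [], (nat_lit 15)⟩,
  ⟨[(nat_lit 9)], (nat_lit 17), [], (nat_lit 17)⟩,
  ⟨[(nat_lit 11)], (nat_lit 13), [(nat_lit 13)], (nat_lit 11)⟩,
  ⟨[(nat_lit 11)], (nat_lit 15), [(nat_lit 15)], (nat_lit 11)⟩,
  ⟨[(nat_lit 11)], (nat_lit 17), [(nat_lit 17)], (nat_lit 11)⟩,
  ⟨[(nat_lit 13)], (nat_lit 15), [], (nat_lit 15)⟩,
  ⟨[(nat_lit 13)], (nat_lit 17), [], (nat_lit 17)⟩,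
  ⟨[(nat_lit 15)], (nat_lit 17), [], (nat_lit 17)⟩,
  ⟨[(nat_lit 11)], (nat_lit 3), [], (nat_lit 3)⟩,
  ⟨[(nat_lit 11)], (nat_lit 5), [], (nat_lit 5)⟩,
  ⟨[(nat_lit 11)], (nat_lit 1), [], (nat_lit 1)⟩,
  ⟨[(nat_lit 11)], (nat_lit 7), [], (nat_lit 7)⟩,
  ⟨[(nat_lit 13)], (nat_lit 3), [(nat_lit 3)], (nat_lit 13)⟩,
  ⟨[(nat_lit 13)], (nat_lit 5), [], (nat_lit 5)⟩,
  ⟨[(nat_lit 13)], (nat_lit 1), [], (nat_lit 1)⟩,
  ⟨[(nat_lit 13)], (nat_lit 7), [], (nat_lit 7)⟩,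
  ⟨[(nat_lit 3)], (nat_lit 1), [(nat_lit 1)], (nat_lit 3)⟩,
  ⟨[(nat_lit 5)], (nat_lit 1), [], (nat_lit 1)⟩,
  ⟨[(nat_lit 15), (nat_lit 13)], (nat_lit 3), [(nat_lit 17), (nat_lit 3)], (nat_lit 1)⟩,
  ⟨[(nat_lit 17), (nat_lit 13)], (nat_lit 3), [(nat_lit 15), (nat_lit 3)], (nat_lit 1)⟩,
  ⟨[(nat_lit 1), (nat_lit 15)], (nat_lit 3), [(nat_lit 15), (nat_lit 3)], (nat_lit 1)⟩,
  ⟨[(nat_lit 13), (nat_lit 15)], (nat_lit 3), [(nat_lit 17), (nat_lit 3)], (nat_lit 1)⟩,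
  ⟨[(nat_lit 17), (nat_lit 15)], (nat_lit 3), [(nat_lit 13), (nat_lit 3)], (nat_lit 1)⟩,
  ⟨[(nat_lit 1), (nat_lit 17)], (nat_lit 3), [(nat_lit 17), (nat_lit 3)], (nat_lit 1)⟩,
  ⟨[(nat_lit 13), (nat_lit 17)], (nat_lit 3), [(nat_lit 15), (nat_lit 3)], (nat_lit 1)⟩,
  ⟨[(nat_lit 15), (nat_lit 17)], (nat_lit 3), [(nat_lit 13), (nat_lit 3)], (nat_lit 1)⟩,
  ⟨[(nat_lit 3), (nat_lit 13)], (nat_lit 11), [(nat_lit 11), (nat_lit 13)], (nat_lit 3)⟩,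
  ⟨[(nat_lit 3), (nat_lit 15)], (nat_lit 11), [(nat_lit 11), (nat_lit 15)], (nat_lit 3)⟩,
  ⟨[(nat_lit 3), (nat_lit 17)], (nat_lit 11), [(nat_lit 11), (nat_lit 17)], (nat_lit 3)⟩,
  ⟨[(nat_lit 3), (nat_lit 13), (nat_lit 5)], (nat_lit 3), [(nat_lit 13), (nat_lit 5)], (nat_lit 3)⟩,
  ⟨[(nat_lit 15), (nat_lit 13), (nat_lit 5)], (nat_lit 3), [(nat_lit 17), (nat_lit 5), (nat_lit 3)], (nat_lit 1)⟩,
  ⟨[(nat_lit 17), (nat_lit 13), (nat_lit 5)], (nat_lit 3), [(nat_lit 15), (nat_lit 5), (nat_lit 3)], (nat_lit 1)⟩,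
  ⟨[(nat_lit 3), (nat_lit 15), (nat_lit 5)], (nat_lit 3), [(nat_lit 15), (nat_lit 5)], (nat_lit 3)⟩,
  ⟨[(nat_lit 17), (nat_lit 15), (nat_lit 5)], (nat_lit 3), [(nat_lit 13), (nat_lit 5), (nat_lit 3)], (nat_lit 1)⟩,
  ⟨[(nat_lit 15), (nat_lit 17), (nat_lit 5)], (nat_lit 3), [(nat_lit 13), (nat_lit 5), (nat_lit 3)], (nat_lit 1)⟩,
  ⟨[(nat_lit 11), (nat_lit 15), (nat_lit 13)], (nat_lit 11), [(nat_lit 15), (nat_lit 13)], (nat_lit 11)⟩,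
  ⟨[(nat_lit 11), (nat_lit 17), (nat_lit 13)], (nat_lit 11), [(nat_lit 17), (nat_lit 13)], (nat_lit 11)⟩,
  ⟨[(nat_lit 11), (nat_lit 17), (nat_lit 15)], (nat_lit 11), [(nat_lit 17), (nat_lit 15)], (nat_lit 11)⟩,
  ⟨[(nat_lit 3), (nat_lit 15), (nat_lit 11), (nat_lit 13)], (nat_lit 3), [(nat_lit 13), (nat_lit 11), (nat_lit 17), (nat_lit 3)], (nat_lit 1)⟩,
  ⟨[(nat_lit 3), (nat_lit 17), (nat_lit 11), (nat_lit 13)], (nat_lit 3), [(nat_lit 13), (nat_lit 11), (nat_lit 15), (nat_lit 3)], (nat_lit 1)⟩,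
  ⟨[(nat_lit 3), (nat_lit 13), (nat_lit 11), (nat_lit 15)], (nat_lit 3), [(nat_lit 15), (nat_lit 11), (nat_lit 17), (nat_lit 3)], (nat_lit 1)⟩,
  ⟨[(nat_lit 3), (nat_lit 17), (nat_lit 11), (nat_lit 15)], (nat_lit 3), [(nat_lit 15), (nat_lit 11), (nat_lit 13), (nat_lit 3)], (nat_lit 1)⟩,
  ⟨[(nat_lit 3), (nat_lit 13), (nat_lit 11), (nat_lit 17)], (nat_lit 3), [(nat_lit 17), (nat_lit 11), (nat_lit 15), (nat_lit 3)], (nat_lit 1)⟩,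
  ⟨[(nat_lit 1), (nat_lit 15), (nat_lit 11), (nat_lit 17)], (nat_lit 3), [(nat_lit 15), (nat_lit 11), (nat_lit 17), (nat_lit 3)], (nat_lit 1)⟩,
  ⟨[(nat_lit 3), (nat_lit 15), (nat_lit 11), (nat_lit 17)], (nat_lit 3), [(nat_lit 17), (nat_lit 11), (nat_lit 13), (nat_lit 3)], (nat_lit 1)⟩,
  ⟨[(nat_lit 1), (nat_lit 3), (nat_lit 15), (nat_lit 13)], (nat_lit 11), [(nat_lit 15), (nat_lit 13), (nat_lit 11), (nat_lit 17)], (nat_lit 3)⟩,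
  ⟨[(nat_lit 13), (nat_lit 3), (nat_lit 15), (nat_lit 13)], (nat_lit 11), [(nat_lit 15), (nat_lit 11), (nat_lit 17), (nat_lit 3)], (nat_lit 1)⟩,
  ⟨[(nat_lit 17), (nat_lit 3), (nat_lit 15), (nat_lit 13)], (nat_lit 11), [(nat_lit 3), (nat_lit 15), (nat_lit 13)], (nat_lit 11)⟩,
  ⟨[(nat_lit 3), (nat_lit 17), (nat_lit 15), (nat_lit 13)], (nat_lit 11), [(nat_lit 17), (nat_lit 15), (nat_lit 13)], (nat_lit 11)⟩,
  ⟨[(nat_lit 1), (nat_lit 3), (nat_lit 17), (nat_lit 13)], (nat_lit 11), [(nat_lit 17), (nat_lit 13), (nat_lit 11), (nat_lit 15)], (nat_lit 3)⟩,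
  ⟨[(nat_lit 13), (nat_lit 3), (nat_lit 17), (nat_lit 13)], (nat_lit 11), [(nat_lit 17), (nat_lit 11), (nat_lit 15), (nat_lit 3)], (nat_lit 1)⟩,
  ⟨[(nat_lit 15), (nat_lit 3), (nat_lit 17), (nat_lit 13)], (nat_lit 11), [(nat_lit 3), (nat_lit 17), (nat_lit 13)], (nat_lit 11)⟩,
  ⟨[(nat_lit 1), (nat_lit 3), (nat_lit 17), (nat_lit 15)], (nat_lit 11), [(nat_lit 17), (nat_lit 15), (nat_lit 11), (nat_lit 13)], (nat_lit 3)⟩,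
  ⟨[(nat_lit 13), (nat_lit 3), (nat_lit 17), (nat_lit 15)], (nat_lit 11), [(nat_lit 3), (nat_lit 17), (nat_lit 15)], (nat_lit 11)⟩,
  ⟨[(nat_lit 15), (nat_lit 3), (nat_lit 17), (nat_lit 15)], (nat_lit 11), [(nat_lit 17), (nat_lit 11), (nat_lit 13), (nat_lit 3)], (nat_lit 1)⟩,
  ⟨[(nat_lit 17), (nat_lit 3), (nat_lit 17), (nat_lit 15)], (nat_lit 11), [(nat_lit 15), (nat_lit 11), (nat_lit 13), (nat_lit 3)], (nat_lit 1)⟩,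
  ⟨[(nat_lit 15), (nat_lit 3), (nat_lit 13), (nat_lit 5), (nat_lit 3)], (nat_lit 1), [(nat_lit 3), (nat_lit 13), (nat_lit 5), (nat_lit 3)], (nat_lit 1)⟩,
  ⟨[(nat_lit 13), (nat_lit 3), (nat_lit 15), (nat_lit 5), (nat_lit 3)], (nat_lit 1), [(nat_lit 3), (nat_lit 15), (nat_lit 5), (nat_lit 3)], (nat_lit 1)⟩,
  ⟨[(nat_lit 17), (nat_lit 3), (nat_lit 15), (nat_lit 5), (nat_lit 3)], (nat_lit 1), [(nat_lit 3), (nat_lit 15), (nat_lit 5), (nat_lit 3)], (nat_lit 1)⟩,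
  ⟨[(nat_lit 13), (nat_lit 3), (nat_lit 17), (nat_lit 5), (nat_lit 3)], (nat_lit 1), [(nat_lit 3), (nat_lit 17), (nat_lit 5), (nat_lit 3)], (nat_lit 1)⟩,
  ⟨[(nat_lit 15), (nat_lit 3), (nat_lit 17), (nat_lit 5), (nat_lit 3)], (nat_lit 1), [(nat_lit 3), (nat_lit 17), (nat_lit 5), (nat_lit 3)], (nat_lit 1)⟩,
  ⟨[(nat_lit 11), (nat_lit 17), (nat_lit 13), (nat_lit 11), (nat_lit 15)], (nat_lit 3), [(nat_lit 17), (nat_lit 13), (nat_lit 11), (nat_lit 15)], (nat_lit 3)⟩,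
  ⟨[(nat_lit 15), (nat_lit 17), (nat_lit 13), (nat_lit 11), (nat_lit 15)], (nat_lit 3), [(nat_lit 17), (nat_lit 13), (nat_lit 11), (nat_lit 15)], (nat_lit 3)⟩,
  ⟨[(nat_lit 11), (nat_lit 15), (nat_lit 13), (nat_lit 11), (nat_lit 17)], (nat_lit 3), [(nat_lit 15), (nat_lit 13), (nat_lit 11), (nat_lit 17)], (nat_lit 3)⟩,
  ⟨[(nat_lit 17), (nat_lit 15), (nat_lit 13), (nat_lit 11), (nat_lit 17)], (nat_lit 3), [(nat_lit 15), (nat_lit 13), (nat_lit 11), (nat_lit 17)], (nat_lit 3)⟩,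
  ⟨[(nat_lit 1), (nat_lit 5), (nat_lit 3), (nat_lit 15), (nat_lit 13)], (nat_lit 11), [(nat_lit 15), (nat_lit 13), (nat_lit 11), (nat_lit 17), (nat_lit 5)], (nat_lit 3)⟩,
  ⟨[(nat_lit 1), (nat_lit 5), (nat_lit 3), (nat_lit 17), (nat_lit 13)], (nat_lit 11), [(nat_lit 17), (nat_lit 13), (nat_lit 11), (nat_lit 15), (nat_lit 5)], (nat_lit 3)⟩,
  ⟨[(nat_lit 5), (nat_lit 3), (nat_lit 13), (nat_lit 11), (nat_lit 17), (nat_lit 5)], (nat_lit 3), [(nat_lit 3), (nat_lit 17), (nat_lit 11), (nat_lit 15), (nat_lit 5), (nat_lit 3)], (nat_lit 1)⟩,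
  ⟨[(nat_lit 15), (nat_lit 3), (nat_lit 17), (nat_lit 9), (nat_lit 7), (nat_lit 5), (nat_lit 3)], (nat_lit 1), [(nat_lit 3), (nat_lit 17), (nat_lit 9), (nat_lit 7), (nat_lit 5), (nat_lit 3)], (nat_lit 1)⟩,
  ⟨[(nat_lit 15), (nat_lit 3), (nat_lit 13), (nat_lit 11), (nat_lit 17), (nat_lit 5), (nat_lit 3)], (nat_lit 1), [(nat_lit 3), (nat_lit 13), (nat_lit 11), (nat_lit 17), (nat_lit 5), (nat_lit 3)], (nat_lit 1)⟩,
  ⟨[(nat_lit 13), (nat_lit 1), (nat_lit 3), (nat_lit 15), (nat_lit 11), (nat_lit 13), (nat_lit 5)], (nat_lit 3), [(nat_lit 3), (nat_lit 17), (nat_lit 11), (nat_lit 3), (nat_lit 13), (nat_lit 5), (nat_lit 3)], (nat_lit 1)⟩,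
  ⟨[(nat_lit 11), (nat_lit 13), (nat_lit 3), (nat_lit 15), (nat_lit 11), (nat_lit 13), (nat_lit 5)], (nat_lit 3), [(nat_lit 13), (nat_lit 3), (nat_lit 15), (nat_lit 11), (nat_lit 13), (nat_lit 5)], (nat_lit 3)⟩,
  ⟨[(nat_lit 1), (nat_lit 17), (nat_lit 3), (nat_lit 15), (nat_lit 11), (nat_lit 13), (nat_lit 5)], (nat_lit 3), [(nat_lit 13), (nat_lit 3), (nat_lit 17), (nat_lit 11), (nat_lit 13), (nat_lit 5), (nat_lit 3)], (nat_lit 1)⟩,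
  ⟨[(nat_lit 13), (nat_lit 1), (nat_lit 3), (nat_lit 17), (nat_lit 11), (nat_lit 13), (nat_lit 5)], (nat_lit 3), [(nat_lit 3), (nat_lit 15), (nat_lit 11), (nat_lit 3), (nat_lit 13), (nat_lit 5), (nat_lit 3)], (nat_lit 1)⟩,
  ⟨[(nat_lit 11), (nat_lit 13), (nat_lit 3), (nat_lit 17), (nat_lit 11), (nat_lit 13), (nat_lit 5)], (nat_lit 3), [(nat_lit 13), (nat_lit 3), (nat_lit 17), (nat_lit 11), (nat_lit 13), (nat_lit 5)], (nat_lit 3)⟩,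
  ⟨[(nat_lit 1), (nat_lit 15), (nat_lit 3), (nat_lit 17), (nat_lit 11), (nat_lit 13), (nat_lit 5)], (nat_lit 3), [(nat_lit 13), (nat_lit 3), (nat_lit 15), (nat_lit 11), (nat_lit 13), (nat_lit 5), (nat_lit 3)], (nat_lit 1)⟩,
  ⟨[(nat_lit 13), (nat_lit 1), (nat_lit 3), (nat_lit 17), (nat_lit 11), (nat_lit 15), (nat_lit 5)], (nat_lit 3), [(nat_lit 15), (nat_lit 3), (nat_lit 13), (nat_lit 11), (nat_lit 15), (nat_lit 5), (nat_lit 3)], (nat_lit 1)⟩,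
  ⟨[(nat_lit 11), (nat_lit 15), (nat_lit 3), (nat_lit 17), (nat_lit 11), (nat_lit 15), (nat_lit 5)], (nat_lit 3), [(nat_lit 15), (nat_lit 3), (nat_lit 17), (nat_lit 11), (nat_lit 15), (nat_lit 5)], (nat_lit 3)⟩,
  ⟨[(nat_lit 11), (nat_lit 17), (nat_lit 3), (nat_lit 15), (nat_lit 11), (nat_lit 17), (nat_lit 5)], (nat_lit 3), [(nat_lit 17), (nat_lit 3), (nat_lit 15), (nat_lit 11), (nat_lit 17), (nat_lit 5)], (nat_lit 3)⟩,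
  ⟨[(nat_lit 5), (nat_lit 15), (nat_lit 11), (nat_lit 3), (nat_lit 13), (nat_lit 7), (nat_lit 5), (nat_lit 3)], (nat_lit 1), [(nat_lit 17), (nat_lit 11), (nat_lit 3), (nat_lit 13), (nat_lit 9), (nat_lit 7), (nat_lit 5), (nat_lit 3)], (nat_lit 1)⟩,
  ⟨[(nat_lit 5), (nat_lit 17), (nat_lit 11), (nat_lit 3), (nat_lit 13), (nat_lit 7), (nat_lit 5), (nat_lit 3)], (nat_lit 1), [(nat_lit 15), (nat_lit 11), (nat_lit 3), (nat_lit 13), (nat_lit 9), (nat_lit 7), (nat_lit 5), (nat_lit 3)], (nat_lit 1)⟩,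
  ⟨[(nat_lit 13), (nat_lit 11), (nat_lit 5), (nat_lit 3), (nat_lit 15), (nat_lit 7), (nat_lit 5), (nat_lit 3)], (nat_lit 1), [(nat_lit 17), (nat_lit 11), (nat_lit 3), (nat_lit 15), (nat_lit 9), (nat_lit 7), (nat_lit 5), (nat_lit 3)], (nat_lit 1)⟩,
  ⟨[(nat_lit 5), (nat_lit 17), (nat_lit 11), (nat_lit 3), (nat_lit 15), (nat_lit 7), (nat_lit 5), (nat_lit 3)], (nat_lit 1), [(nat_lit 13), (nat_lit 11), (nat_lit 3), (nat_lit 15), (nat_lit 9), (nat_lit 7), (nat_lit 5), (nat_lit 3)], (nat_lit 1)⟩,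
  ⟨[(nat_lit 13), (nat_lit 11), (nat_lit 5), (nat_lit 3), (nat_lit 17), (nat_lit 7), (nat_lit 5), (nat_lit 3)], (nat_lit 1), [(nat_lit 15), (nat_lit 11), (nat_lit 3), (nat_lit 17), (nat_lit 9), (nat_lit 7), (nat_lit 5), (nat_lit 3)], (nat_lit 1)⟩,
  ⟨[(nat_lit 7), (nat_lit 17), (nat_lit 13), (nat_lit 11), (nat_lit 3), (nat_lit 15), (nat_lit 5), (nat_lit 3)], (nat_lit 1), [(nat_lit 11), (nat_lit 5), (nat_lit 3), (nat_lit 15), (nat_lit 9), (nat_lit 7), (nat_lit 5), (nat_lit 3)], (nat_lit 1)⟩,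
  ⟨[(nat_lit 7), (nat_lit 15), (nat_lit 13), (nat_lit 11), (nat_lit 3), (nat_lit 17), (nat_lit 5), (nat_lit 3)], (nat_lit 1), [(nat_lit 11), (nat_lit 5), (nat_lit 3), (nat_lit 17), (nat_lit 9), (nat_lit 7), (nat_lit 5), (nat_lit 3)], (nat_lit 1)⟩,
  ⟨[(nat_lit 17), (nat_lit 1), (nat_lit 3), (nat_lit 13), (nat_lit 11), (nat_lit 15), (nat_lit 7), (nat_lit 5)], (nat_lit 3), [(nat_lit 15), (nat_lit 3), (nat_lit 17), (nat_lit 11), (nat_lit 15), (nat_lit 7), (nat_lit 5), (nat_lit 3)], (nat_lit 1)⟩,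
  ⟨[(nat_lit 15), (nat_lit 1), (nat_lit 3), (nat_lit 13), (nat_lit 11), (nat_lit 17), (nat_lit 7), (nat_lit 5)], (nat_lit 3), [(nat_lit 17), (nat_lit 3), (nat_lit 15), (nat_lit 11), (nat_lit 17), (nat_lit 7), (nat_lit 5), (nat_lit 3)], (nat_lit 1)⟩,
  ⟨[(nat_lit 15), (nat_lit 11), (nat_lit 13), (nat_lit 3), (nat_lit 17), (nat_lit 11), (nat_lit 15), (nat_lit 5)], (nat_lit 3), [(nat_lit 11), (nat_lit 17), (nat_lit 3), (nat_lit 15), (nat_lit 11), (nat_lit 17), (nat_lit 5), (nat_lit 3)], (nat_lit 1)⟩,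
  ⟨[(nat_lit 13), (nat_lit 11), (nat_lit 15), (nat_lit 3), (nat_lit 13), (nat_lit 11), (nat_lit 17), (nat_lit 5)], (nat_lit 3), [(nat_lit 15), (nat_lit 11), (nat_lit 17), (nat_lit 3), (nat_lit 15), (nat_lit 11), (nat_lit 13), (nat_lit 5)], (nat_lit 3)⟩,
  ⟨[(nat_lit 17), (nat_lit 11), (nat_lit 13), (nat_lit 3), (nat_lit 15), (nat_lit 11), (nat_lit 17), (nat_lit 5)], (nat_lit 3), [(nat_lit 11), (nat_lit 15), (nat_lit 3), (nat_lit 17), (nat_lit 11), (nat_lit 15), (nat_lit 5), (nat_lit 3)], (nat_lit 1)⟩,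
  ⟨[(nat_lit 13), (nat_lit 11), (nat_lit 17), (nat_lit 15), (nat_lit 11), (nat_lit 3), (nat_lit 15), (nat_lit 5), (nat_lit 3)], (nat_lit 1), [(nat_lit 11), (nat_lit 17), (nat_lit 15), (nat_lit 11), (nat_lit 3), (nat_lit 15), (nat_lit 5), (nat_lit 3)], (nat_lit 1)⟩,
  ⟨[(nat_lit 17), (nat_lit 11), (nat_lit 15), (nat_lit 3), (nat_lit 13), (nat_lit 11), (nat_lit 15), (nat_lit 5), (nat_lit 3)], (nat_lit 1), [(nat_lit 15), (nat_lit 11), (nat_lit 13), (nat_lit 3), (nat_lit 17), (nat_lit 11), (nat_lit 13), (nat_lit 5), (nat_lit 3)], (nat_lit 1)⟩,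
  ⟨[(nat_lit 3), (nat_lit 15), (nat_lit 5), (nat_lit 3), (nat_lit 17), (nat_lit 11), (nat_lit 13), (nat_lit 7), (nat_lit 5)], (nat_lit 3), [(nat_lit 17), (nat_lit 5), (nat_lit 3), (nat_lit 15), (nat_lit 11), (nat_lit 13), (nat_lit 9), (nat_lit 7), (nat_lit 5)], (nat_lit 3)⟩,
  ⟨[(nat_lit 17), (nat_lit 3), (nat_lit 15), (nat_lit 5), (nat_lit 3), (nat_lit 13), (nat_lit 11), (nat_lit 15), (nat_lit 7), (nat_lit 5)], (nat_lit 3), [(nat_lit 7), (nat_lit 5), (nat_lit 1), (nat_lit 3), (nat_lit 15), (nat_lit 11), (nat_lit 17), (nat_lit 9), (nat_lit 7), (nat_lit 5)], (nat_lit 3)⟩,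
  ⟨[(nat_lit 15), (nat_lit 11), (nat_lit 17), (nat_lit 5), (nat_lit 3), (nat_lit 13), (nat_lit 11), (nat_lit 15), (nat_lit 7), (nat_lit 5)], (nat_lit 3), [(nat_lit 11), (nat_lit 13), (nat_lit 5), (nat_lit 3), (nat_lit 15), (nat_lit 11), (nat_lit 13), (nat_lit 7), (nat_lit 5), (nat_lit 3)], (nat_lit 1)⟩,
  ⟨[(nat_lit 7), (nat_lit 3), (nat_lit 17), (nat_lit 5), (nat_lit 3), (nat_lit 15), (nat_lit 11), (nat_lit 17), (nat_lit 7), (nat_lit 5)], (nat_lit 3), [(nat_lit 5), (nat_lit 3), (nat_lit 15), (nat_lit 11), (nat_lit 3), (nat_lit 13), (nat_lit 9), (nat_lit 7), (nat_lit 5), (nat_lit 3)], (nat_lit 1)⟩]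
noncomputable def u1 : List Nat := [1, 3, 5, 7, 9, 13, 11]
noncomputable def u2 : List Nat := [1, 3, 5, 7, 9, 15, 11]
noncomputable def u3 : List Nat := [1, 3, 5, 7, 9, 17, 11]
noncomputable def sw : List Nat := [15, 11, 5, 3, 5, 13, 11, 9, 7, 3, 15, 11, 5, 3, 5, 13, 11, 9, 7, 3]
noncomputable def rs : List (List Nat) := lapp (lmap QR.rel qs) [wpow sw 2]

/-- a presentation of the unitary group -/
theorem bnd : Bound (ug (wpow u3 9 :: wpow u1 9 :: wpow u2 9 :: rs)) (gensW 9) 9196830720 :=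
  e.bound (rels_sub (ug_rels _) (by decide +kernel)) (e7.bound (rels_sub (ug_rels _) (by decide +kernel))
    (Bound.of_evs (ws := [[], [11], [13], [3], [5], [7], [], [1]])
      (Fi22.bnd3 (rels_evs (ug_rels _) (by decide +kernel))) (by decide +kernel)))

end CF.Comp.U6
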